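import Cfsg.Agent.H65.AbInv.Product
import Cfsg.Agent.S0016
import Mathlib.GroupTheory.Sylow

/-!
# Groups with abelian involution centralisers: the case split
-/

set_option autoImplicit false
set_option linter.unusedSectionVars false
set_option linter.style.haveILetI false

namespace Cfsg.Agent.H65.AbInv

open scoped Pointwise

universe u

variable {G : Type u} [Group G] [Finite G]

theorem cyclic_of_unique_invol {Q : Type u} [Group Q] [Finite Q] (hQ : IsPGroup 2 Q)
    (hab : ∀ a b : Q, a * b = b * a) (hu : ∀ x y : Q, orderOf x = 2 → orderOf y = 2 → x = y) :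
    IsCyclic Q := by
  haveI : Fact (Nat.Prime 2) := ⟨Nat.prime_two⟩
  refine (S0016.result 2 hQ fun A B hA hB => ?_).elim id ?_
  · obtain ⟨a, ha⟩ := exists_prime_orderOf_dvd_card' (G := A) 2 (by rw [hA])
    obtain ⟨b, hb⟩ := exists_prime_orderOf_dvd_card' (G := B) 2 (by rw [hB])
    have hab' := hu (a : Q) (b : Q) ((Subgroup.orderOf_coe a).trans ha)
      ((Subgroup.orderOf_coe b).trans hb)
    have h1 : Subgroup.zpowers (a : Q) = A := Subgroup.eq_of_le_of_card_ge
      (Subgroup.zpowers_le.2 a.2) (by rw [Nat.card_zpowers, Subgroup.orderOf_coe, ha, hA])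
    have h2 : Subgroup.zpowers (b : Q) = B := Subgroup.eq_of_le_of_card_ge
      (Subgroup.zpowers_le.2 b.2) (by rw [Nat.card_zpowers, Subgroup.orderOf_coe, hb, hB])
    rw [← h1, ← h2, hab']
  · rintro ⟨-, n, ⟨e⟩⟩
    rcases Nat.eq_zero_or_pos n with rfl | hn
    · haveI : IsCyclic (QuaternionGroup (2 ^ 0)) := isCyclic_of_orderOf_eq_card
        (QuaternionGroup.xa 0) (by
          rw [QuaternionGroup.orderOf_xa, Nat.card_eq_fintype_card, QuaternionGroup.card]; rfl)
      exact isCyclic_of_surjective e.symm.toMonoidHom e.symm.surjective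
    · exfalso
      have h : (QuaternionGroup.a 1 : QuaternionGroup (2 ^ n)) * QuaternionGroup.xa 0 =
          QuaternionGroup.xa 0 * QuaternionGroup.a 1 :=
        e.symm.injective (by rw [map_mul, map_mul]; exact hab _ _)
      rw [QuaternionGroup.a_mul_xa, QuaternionGroup.xa_mul_a] at h
      injection h with h
      rw [zero_sub, zero_add, neg_eq_iff_add_eq_zero, one_add_one_eq_two,
        show (2 : ZMod (2 * 2 ^ n)) = ((2 : ℕ) : ZMod (2 * 2 ^ n)) by norm_num,
        ZMod.natCast_eq_zero_iff] at h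
      have h1 := Nat.le_of_dvd (by norm_num) h
      have h2 : 2 ^ 1 ≤ 2 ^ n := Nat.pow_le_pow_right (by norm_num) hn
      omega

theorem A_eq_of_commute' (hcomm : ∀ v : G, orderOf v = 2 → ∀ a ∈ A v, ∀ b ∈ A v, Commute a b)
    {v w : G} (hv : orderOf v = 2) (hw : orderOf w = 2) (h : Commute v w) : A v = A w :=
  le_antisymm (fun a ha => mem_A.2 (hcomm v hv a ha w (mem_A.2 h.symm)))
    (fun a ha => mem_A.2 (hcomm w hw a ha v (mem_A.2 h)))

/-- The Sylow 2-subgroups are abelian. -/
theorem sylow_comm (hcomm : ∀ v : G, orderOf v = 2 → ∀ a ∈ A v, ∀ b ∈ A v, Commute a b)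
    (heven : Even (Nat.card G)) (P : Sylow 2 G) :
    ∀ a ∈ (P : Subgroup G), ∀ b ∈ (P : Subgroup G), Commute a b := by
  haveI : Fact (Nat.Prime 2) := ⟨Nat.prime_two⟩
  haveI : Nontrivial ↥(P : Subgroup G) := by
    rw [Subgroup.nontrivial_iff_ne_bot]
    exact P.ne_bot_of_dvd_card (even_iff_two_dvd.1 heven)
  haveI := IsPGroup.center_nontrivial P.2
  obtain ⟨k, hk0, hk⟩ := IsPGroup.nontrivial_iff_card (P.2.to_subgroup (Subgroup.center _)) |>.1
    inferInstance
  obtain ⟨z, hz⟩ := exists_prime_orderOf_dvd_card' (G := ↥(Subgroup.center ↥(P : Subgroup G))) 2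
    (by rw [hk]; exact dvd_pow_self 2 (by omega))
  have hzo : orderOf ((z : ↥(P : Subgroup G)) : G) = 2 := by
    rw [Subgroup.orderOf_coe, Subgroup.orderOf_coe, hz]
  have hle : ∀ a ∈ (P : Subgroup G), a ∈ A ((z : ↥(P : Subgroup G)) : G) := fun a ha =>
    mem_A.2 (congrArg Subtype.val (Subgroup.mem_center_iff.1 z.2 ⟨a, ha⟩))
  exact fun a ha b hb => hcomm _ hzo a (hle a ha) b (hle b hb)

/-- If some involution centraliser is normal then so is the Sylow 2-subgroup. -/
theorem normal_of_N_top (hcomm : ∀ v : G, orderOf v = 2 → ∀ a ∈ A v, ∀ b ∈ A v, Commute a b)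
    (heven : Even (Nat.card G)) {v : G} (hv : orderOf v = 2) (htop : N v = ⊤) (Q : Sylow 2 G) :
    (Q : Subgroup G).Normal := by
  haveI : Fact (Nat.Prime 2) := ⟨Nat.prime_two⟩
  obtain ⟨P, hP⟩ := (IsPGroup.of_card (p := 2) (n := 1) (G := ↥(Subgroup.zpowers v))
    (by rw [Nat.card_zpowers, hv, pow_one])).exists_le_sylow
  have hvP : v ∈ (P : Subgroup G) := hP (Subgroup.mem_zpowers v)
  have hPA : (P : Subgroup G) ≤ A v := fun a ha =>
    mem_A.2 (sylow_comm hcomm heven P a ha v hvP)
  have key : ∀ R : Sylow 2 G, (R : Subgroup G) ≤ A v := by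
    intro R
    obtain ⟨g, rfl⟩ := MulAction.exists_smul_eq G P R
    intro y hy
    rw [show ((g • P : Sylow 2 G) : Subgroup G) = MulAut.conj g • (P : Subgroup G) from rfl,
      Subgroup.mem_pointwise_smul_iff_inv_smul_mem, MulAut.smul_def, MulAut.conj_inv_apply] at hy
    have := conj_mem_of_mem_N (g := g) (htop ▸ Subgroup.mem_top g) (hPA hy)
    rwa [show g * (g⁻¹ * y * g) * g⁻¹ = y by group] at this
  haveI : Subsingleton (Sylow 2 G) := by
    refine ⟨fun R T => Sylow.ext ?_⟩
    have h1 : (R : Subgroup G) ≤ Subgroup.normalizer ((T : Subgroup G) : Set G) := by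
      intro r hr
      refine Subgroup.mem_normalizer_iff.2 fun x => ?_
      constructor
      · intro hx
        rwa [(hcomm v hv r (key R hr) x (key T hx)).eq, mul_inv_cancel_right]
      · intro hx
        have h2 := hcomm v hv r (key R hr) _ (key T hx)
        have : r * x * r⁻¹ = x := by
          have h3 : r * (r * x * r⁻¹) * r⁻¹ = r * x * r⁻¹ := by
            rw [h2.eq, mul_inv_cancel_right]
          exact mul_left_cancel (mul_right_cancel h3)
        rwa [this] at hx
    have h4 : (R : Subgroup G) ≤ (T : Subgroup G) := by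
      have h5 : (R : Subgroup G) ⊓ Subgroup.normalizer ((T : Subgroup G) : Set G) =
          (R : Subgroup G) ⊓ (T : Subgroup G) := IsPGroup.inf_normalizer_sylow R.2 T
      rw [inf_eq_left.2 h1] at h5
      exact inf_eq_left.1 h5.symm
    exact (R.is_maximal' T.2 h4).symm
  exact Sylow.normal_of_subsingleton Q

/-- The case split. -/
theorem cases (hcomm : ∀ v : G, orderOf v = 2 → ∀ a ∈ A v, ∀ b ∈ A v, Commute a b)
    (heven : Even (Nat.card G)) :
    (∀ P : Sylow 2 G, IsCyclic ↥P) ∨ (∀ P : Sylow 2 G, (P : Subgroup G).Normal) ∨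
      ∃ t : G, orderOf t = 2 ∧ Hyp G := by
  haveI : Fact (Nat.Prime 2) := ⟨Nat.prime_two⟩
  by_cases hcyc : ∃ P : Sylow 2 G, IsCyclic ↥P
  · obtain ⟨P, hP⟩ := hcyc
    exact Or.inl fun Q => isCyclic_of_surjective (Sylow.equiv P Q).toMonoidHom
      (Sylow.equiv P Q).surjective
  push Not at hcyc
  by_cases htop : ∃ v : G, orderOf v = 2 ∧ N v = ⊤
  · obtain ⟨v, hv, h⟩ := htop
    exact Or.inr (Or.inl (normal_of_N_top hcomm heven hv h))
  push Not at htop
  obtain ⟨t, ht⟩ := exists_prime_orderOf_dvd_card' (G := G) 2 (even_iff_two_dvd.1 heven)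
  refine Or.inr (Or.inr ⟨t, ht, hcomm, fun a b ha hb => ?_, fun v hv => ?_, htop⟩)
  · by_contra hab
    obtain ⟨u, hu, hua, hub⟩ := H65.exists_invol_commute_of_not_isConj ha hb hab
    refine htop a ha ((Subgroup.eq_top_iff' _).2 fun g => mem_N_of_eq ?_)
    obtain ⟨w, hw, hwa, hwb⟩ := H65.exists_invol_commute_of_not_isConj (conj_order g ha) hb
      fun h => hab ((isConj_iff.2 ⟨g, rfl⟩).trans h)
    rw [← A_eq_of_commute' hcomm hw (conj_order g ha) hwa, A_eq_of_commute' hcomm hw hb hwb,
      ← A_eq_of_commute' hcomm hu ha hua, A_eq_of_commute' hcomm hu hb hub]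
  · obtain ⟨P, hP⟩ := (IsPGroup.of_card (p := 2) (n := 1) (G := ↥(Subgroup.zpowers v))
      (by rw [Nat.card_zpowers, hv, pow_one])).exists_le_sylow
    have hvP : v ∈ (P : Subgroup G) := hP (Subgroup.mem_zpowers v)
    by_contra hcon
    push Not at hcon
    refine hcyc P (cyclic_of_unique_invol P.2
      (fun a b => Subtype.ext (sylow_comm hcomm heven P a a.2 b b.2).eq) ?_)
    have hall : ∀ x : ↥(P : Subgroup G), orderOf x = 2 → (x : G) = v := fun x hx => by
      by_contra hne
      exact hcon x ((Subgroup.orderOf_coe x).trans hx) hne (sylow_comm hcomm heven P x x.2 v hvP)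
    exact fun x y hx hy => Subtype.ext ((hall x hx).trans (hall y hy).symm)

end Cfsg.Agent.H65.AbInv
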