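import Cfsg.Agent.H26.Invol
import Cfsg.Agent.H65.Invol
import Mathlib.GroupTheory.Perm.Cycle.Type
import Mathlib.GroupTheory.GroupAction.Quotient

/-!
# Groups with abelian involution centralisers: first properties

The centralisers `A u` of the involutions form a family of TI sets with respect to involutions.
-/

set_option autoImplicit false
set_option linter.unusedSectionVars false
set_option linter.style.haveILetI false

open Finset

namespace Cfsg.Agent.H65.AbInv

universe u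

variable {G : Type u} [Group G] [Finite G]

/-- The centraliser of `v`. -/
abbrev A (v : G) : Subgroup G := Subgroup.centralizer ({v} : Set G)

/-- The normaliser of the centraliser of `v`. -/
abbrev N (v : G) : Subgroup G := Subgroup.normalizer (A v : Set G)

omit [Finite G] in
theorem mem_A {x v : G} : x ∈ A v ↔ Commute x v := Subgroup.mem_centralizer_singleton_iff

omit [Finite G] in
theorem self_mem (v : G) : v ∈ A v := mem_A.2 (Commute.refl v)

omit [Finite G] in
theorem conj_mem_A {x v : G} (g : G) (h : x ∈ A v) : g * x * g⁻¹ ∈ A (g * v * g⁻¹) :=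
  mem_A.2 ((mem_A.1 h).map (MulAut.conj g).toMonoidHom)

omit [Finite G] in
theorem conj_mem_A_iff {x v : G} (g : G) : g * x * g⁻¹ ∈ A (g * v * g⁻¹) ↔ x ∈ A v := by
  refine ⟨fun h => ?_, conj_mem_A g⟩
  have := conj_mem_A g⁻¹ h
  rwa [show g⁻¹ * (g * x * g⁻¹) * g⁻¹⁻¹ = x by group,
    show g⁻¹ * (g * v * g⁻¹) * g⁻¹⁻¹ = v by group] at this

omit [Finite G] in
theorem mem_N_of_eq {g v : G} (h : A (g * v * g⁻¹) = A v) : g ∈ N v :=
  Subgroup.mem_normalizer_iff.2 fun x => by
    conv_rhs => rw [← h]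
    exact (conj_mem_A_iff g).symm

omit [Finite G] in
theorem eq_of_mem_N {g v : G} (h : g ∈ N v) : A (g * v * g⁻¹) = A v := by
  refine le_antisymm (fun y hy => ?_) (fun y hy => ?_)
  · have e : y = g * (g⁻¹ * y * g) * g⁻¹ := by group
    rw [e] at hy ⊢
    exact (Subgroup.mem_normalizer_iff.1 h _).1 ((conj_mem_A_iff g).1 hy)
  · have e : y = g * (g⁻¹ * y * g) * g⁻¹ := by group
    rw [e] at hy ⊢
    exact conj_mem_A g ((Subgroup.mem_normalizer_iff.1 h _).2 hy)

/-- All centralisers of involutions are abelian, there is one class of involutions, a four group,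
and no involution centraliser is normal. -/
structure Hyp (G : Type u) [Group G] : Prop where
  comm : ∀ v : G, orderOf v = 2 → ∀ a ∈ A v, ∀ b ∈ A v, Commute a b
  one : ∀ v w : G, orderOf v = 2 → orderOf w = 2 → IsConj v w
  rank : ∀ v : G, orderOf v = 2 → ∃ w, orderOf w = 2 ∧ w ≠ v ∧ Commute w v
  proper : ∀ v : G, orderOf v = 2 → N v ≠ ⊤

theorem A_eq_of_commute (H : Hyp G) {v w : G} (hv : orderOf v = 2) (hw : orderOf w = 2)
    (h : Commute v w) : A v = A w :=
  le_antisymm (fun a ha => mem_A.2 (H.comm v hv a ha w (mem_A.2 h.symm)))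
    (fun a ha => mem_A.2 (H.comm w hw a ha v (mem_A.2 h)))

theorem A_eq_of_mem (H : Hyp G) {v w : G} (hv : orderOf v = 2) (hw : orderOf w = 2)
    (h : w ∈ A v) : A w = A v :=
  A_eq_of_commute H hw hv (mem_A.1 h)

theorem mem_A_iff_eq (H : Hyp G) {v w : G} (hv : orderOf v = 2) (hw : orderOf w = 2) :
    w ∈ A v ↔ A w = A v :=
  ⟨A_eq_of_mem H hv hw, fun h => h ▸ self_mem w⟩

omit [Finite G] in
theorem conj_order {v : G} (g : G) (hv : orderOf v = 2) : orderOf (g * v * g⁻¹) = 2 := by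
  rw [H26.orderOf_conj_eq, hv]

theorem mem_N_iff (H : Hyp G) {g v : G} (hv : orderOf v = 2) :
    g ∈ N v ↔ g * v * g⁻¹ ∈ A v := by
  rw [mem_A_iff_eq H hv (conj_order g hv)]
  exact ⟨eq_of_mem_N, mem_N_of_eq⟩

omit [Finite G] in
theorem N_eq_of_A_eq {v w : G} (h : A v = A w) : N v = N w := by rw [N, N, h]

omit [Finite G] in
theorem A_le_N (v : G) : A v ≤ N v := Subgroup.le_normalizer

omit [Finite G] in
theorem conj_mem_of_mem_N {g v x : G} (hg : g ∈ N v) (hx : x ∈ A v) : g * x * g⁻¹ ∈ A v :=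
  (Subgroup.mem_normalizer_iff.1 hg x).1 hx

omit [Finite G] in
theorem conj_mem_N {g v : G} (n : G) (h : n ∈ N v) : g * n * g⁻¹ ∈ N (g * v * g⁻¹) := by
  refine mem_N_of_eq ?_
  rw [show g * n * g⁻¹ * (g * v * g⁻¹) * (g * n * g⁻¹)⁻¹ = g * (n * v * n⁻¹) * g⁻¹ by group]
  ext x
  rw [show x = g * (g⁻¹ * x * g) * g⁻¹ by group, conj_mem_A_iff, conj_mem_A_iff, eq_of_mem_N h]

open scoped Classical in
/-- The involutions of `L`. -/
noncomputable def invols (L : Subgroup G) : Finset G :=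
  @Finset.filter G (fun w => orderOf w = 2 ∧ w ∈ L) (Classical.decPred _) (@Finset.univ G (Fintype.ofFinite G))

theorem mem_invols {L : Subgroup G} {w : G} : w ∈ invols L ↔ orderOf w = 2 ∧ w ∈ L := by
  simp [invols]

theorem card_invols_conj {v : G} (g : G) :
    (invols (A (g * v * g⁻¹))).card = (invols (A v)).card := by
  classical
  refine (Finset.card_bij (fun w _ => g * w * g⁻¹) ?_ ?_ ?_).symm
  · intro w hw
    rw [mem_invols] at hw ⊢
    exact ⟨conj_order g hw.1, conj_mem_A g hw.2⟩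
  · intro a _ b _ h
    exact mul_left_cancel (mul_right_cancel h)
  · intro w hw
    rw [mem_invols] at hw
    refine ⟨g⁻¹ * w * g, mem_invols.2 ⟨?_, ?_⟩, by group⟩
    · have := conj_order g⁻¹ hw.1
      rwa [inv_inv] at this
    · rw [← conj_mem_A_iff g, show g * (g⁻¹ * w * g) * g⁻¹ = w by group]
      exact hw.2

/-- An involutive permutation of a finite set of odd cardinality fixes a point. -/
theorem exists_fixed {α : Type u} [Fintype α] (σ : Equiv.Perm α) (h : ∀ a, σ (σ a) = a)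
    (hodd : Odd (Fintype.card α)) : ∃ a, σ a = a := by
  haveI : Fact (Nat.Prime 2) := ⟨Nat.prime_two⟩
  exact Equiv.Perm.exists_fixed_point_of_prime (p := 2) (n := 1)
    (fun hd => Nat.not_even_iff_odd.2 hodd (even_iff_two_dvd.2 hd))
    (Equiv.ext fun a => by rw [pow_one, pow_two, Equiv.Perm.mul_apply, h, Equiv.Perm.one_apply])

theorem odd_invols_A (H : Hyp G) {v : G} (hv : orderOf v = 2) : Odd (invols (A v)).card := by
  classical
  haveI := Fintype.ofFinite G
  let W : Subgroup G :=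
    { carrier := {x | x ∈ A v ∧ x * x = 1}
      one_mem' := ⟨one_mem _, one_mul 1⟩
      mul_mem' := by
        rintro a b ⟨ha, ha2⟩ ⟨hb, hb2⟩
        refine ⟨mul_mem ha hb, ?_⟩
        rw [(H.comm v hv b hb a ha).mul_mul_mul_comm, ha2, hb2, one_mul]
      inv_mem' := by
        rintro a ⟨ha, ha2⟩
        exact ⟨inv_mem ha, by rw [← mul_inv_rev, ha2, inv_one]⟩ }
  have hW : invols (A v) = ((univ : Finset G).filter fun x => x ∈ W).erase 1 := by
    ext x
    rw [mem_invols, Finset.mem_erase, Finset.mem_filter]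
    show _ ↔ x ≠ 1 ∧ _ ∧ (x ∈ A v ∧ x * x = 1)
    constructor
    · rintro ⟨hx, hxA⟩
      exact ⟨ne_one_of_orderOf hx, Finset.mem_univ _, hxA, mul_self_eq_one hx⟩
    · rintro ⟨hx1, -, hxA, hx2⟩
      exact ⟨H26.orderOf_two_of_mul_self hx2 hx1, hxA⟩
  have h2 : 2 ∣ Nat.card ↥W :=
    hv ▸ Subgroup.orderOf_dvd_natCard W (show v ∈ A v ∧ v * v = 1 from ⟨self_mem v, mul_self_eq_one hv⟩)
  have hpos : 0 < Nat.card ↥W := Nat.card_pos
  rw [hW, Finset.card_erase_of_mem (Finset.mem_filter.2 ⟨Finset.mem_univ _, W.one_mem⟩),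
    ← Fintype.card_subtype, ← Nat.card_eq_fintype_card]
  exact Nat.Even.sub_odd hpos (even_iff_two_dvd.2 h2) odd_one

/-- Involutions of the normaliser lie in the centraliser. -/
theorem invol_mem_A (H : Hyp G) {v x : G} (hv : orderOf v = 2) (hx : orderOf x = 2)
    (h : x ∈ N v) : x ∈ A v := by
  classical
  have hxx : ∀ a : G, x * (x * a * x⁻¹) * x⁻¹ = a := fun a => by
    rw [show x * (x * a * x⁻¹) * x⁻¹ = (x * x) * a * (x * x)⁻¹ by group, mul_self_eq_one hx]; group
  let σ : Equiv.Perm {w // w ∈ invols (A v)} :=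
    Function.Involutive.toPerm
      (fun w => ⟨x * w * x⁻¹, mem_invols.2
        ⟨conj_order x (mem_invols.1 w.2).1, conj_mem_of_mem_N h (mem_invols.1 w.2).2⟩⟩)
      fun w => Subtype.ext (hxx w.1)
  obtain ⟨⟨w, hw⟩, hfix⟩ := exists_fixed σ (fun w => Subtype.ext (hxx w.1))
    (by rw [Fintype.card_coe]; exact odd_invols_A H hv)
  obtain ⟨hw2, hwA⟩ := mem_invols.1 hw
  have hc : x * w * x⁻¹ = w := congrArg Subtype.val hfix
  rw [← A_eq_of_mem H hv hw2 hwA]
  exact mem_A.2 (mul_inv_eq_iff_eq_mul.1 hc)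

/-- The elements of `L` centralising an involution of `L` lie in `L`. -/
def Closed (L : Subgroup G) : Prop := ∀ w ∈ L, orderOf w = 2 → A w ≤ L

/-- The normalisers of the centralisers of the involutions of `L` lie in `L`. -/
def Full (L : Subgroup G) : Prop := ∀ w ∈ L, orderOf w = 2 → N w ≤ L

theorem Full.closed {L : Subgroup G} (h : Full L) : Closed L :=
  fun w hw hw2 => (A_le_N w).trans (h w hw hw2)

theorem full_N (H : Hyp G) {v : G} (hv : orderOf v = 2) : Full (N v) := fun w hw hw2 =>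
  (N_eq_of_A_eq (A_eq_of_mem H hv hw2 (invol_mem_A H hv hw2 hw))).le

/-- An involution normalising `L` fixes one of the centralisers of involutions of `L`. -/
theorem exists_fixed_point (H : Hyp G) {L : Subgroup G} {v : G} (hv : orderOf v = 2) (hvL : v ∈ L)
    {x : G} (hx : orderOf x = 2) (hxL : ∀ y ∈ L, x * y * x⁻¹ ∈ L) :
    ∃ w, orderOf w = 2 ∧ w ∈ L ∧ x ∈ A w := by
  classical
  haveI := Fintype.ofFinite G
  haveI := Fintype.ofFinite (Subgroup G)
  set Ω := (invols L).image (fun w => A w) with hΩ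
  -- conjugation by an involution of `L` permutes them
  have hperm : ∀ s : G, orderOf s = 2 → (∀ y ∈ L, s * y * s⁻¹ ∈ L) →
      ∃ σ : Equiv.Perm {P // P ∈ Ω}, (∀ P, σ (σ P) = P) ∧
        (∀ (w : G) (hw : A w ∈ Ω), (σ ⟨A w, hw⟩).1 = A (s * w * s⁻¹)) ∧
        ∀ (w : G) (hw : A w ∈ Ω), orderOf w = 2 → w ∈ L →
          σ ⟨A w, hw⟩ = ⟨A w, hw⟩ → s ∈ A w := by
    intro s hs hsL
    have hmap : ∀ w : G, (A w).map (MulAut.conj s).toMonoidHom = A (s * w * s⁻¹) := by
      intro w; ext y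
      constructor
      · rintro ⟨z, hz, rfl⟩; exact conj_mem_A s hz
      · intro hy
        refine ⟨s⁻¹ * y * s, (conj_mem_A_iff s).1 ?_, ?_⟩
        · rwa [show s * (s⁻¹ * y * s) * s⁻¹ = y by group]
        · show s * (s⁻¹ * y * s) * s⁻¹ = y; group
    have hclos : ∀ P ∈ Ω, P.map (MulAut.conj s).toMonoidHom ∈ Ω := by
      intro P hP
      obtain ⟨w, hw, rfl⟩ := Finset.mem_image.1 hP
      rw [hmap]
      exact Finset.mem_image.2 ⟨_, mem_invols.2
        ⟨conj_order s (mem_invols.1 hw).1, hsL w (mem_invols.1 hw).2⟩, rfl⟩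
    have hinv : ∀ P : {P // P ∈ Ω},
        (⟨_, hclos _ (hclos P.1 P.2)⟩ : {P // P ∈ Ω}) = P := fun P => Subtype.ext (by
      show (P.1.map (MulAut.conj s).toMonoidHom).map (MulAut.conj s).toMonoidHom = P.1
      rw [Subgroup.map_map]
      convert Subgroup.map_id P.1 using 2
      ext y
      show s * (s * y * s⁻¹) * s⁻¹ = y
      rw [show s * (s * y * s⁻¹) * s⁻¹ = (s * s) * y * (s * s)⁻¹ by group, mul_self_eq_one hs]
      group)
    refine ⟨Function.Involutive.toPerm (fun P => ⟨_, hclos P.1 P.2⟩) hinv, hinv,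
      fun w hw => hmap w, fun w hw hw2 hwL hfix => ?_⟩
    have h1 : (A w).map (MulAut.conj s).toMonoidHom = A w := congrArg Subtype.val hfix
    rw [hmap] at h1
    exact invol_mem_A H hw2 hs (mem_N_of_eq h1)
  -- their number is odd
  obtain ⟨σ, hσ, hσval, hσfix⟩ := hperm v hv fun y hy => L.mul_mem (L.mul_mem hvL hy) (L.inv_mem hvL)
  have hvΩ : A v ∈ Ω := Finset.mem_image.2 ⟨v, mem_invols.2 ⟨hv, hvL⟩, rfl⟩
  have hodd : Odd (Fintype.card {P // P ∈ Ω}) := by
    haveI : Fact (Nat.Prime 2) := ⟨Nat.prime_two⟩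
    have h1 := Equiv.Perm.card_fixedPoints_modEq (p := 2) (n := 1) (f := (⇑σ : Function.End {P // P ∈ Ω}))
      (funext fun P => hσ P)
    have h2 : Fintype.card (Function.fixedPoints σ) = 1 := by
      refine Fintype.card_eq_one_iff.2 ⟨⟨⟨A v, hvΩ⟩, ?_⟩, ?_⟩
      · show σ ⟨A v, hvΩ⟩ = _
        exact Subtype.ext (by rw [hσval v hvΩ, mul_inv_cancel_right])
      · rintro ⟨⟨P, hP⟩, hPfix⟩
        obtain ⟨w, hw, rfl⟩ := Finset.mem_image.1 hP
        obtain ⟨hw2, hwL⟩ := mem_invols.1 hw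
        exact Subtype.ext (Subtype.ext (A_eq_of_mem H hw2 hv (hσfix w hP hw2 hwL hPfix)).symm)
    rw [Nat.odd_iff]
    exact h1.trans (by rw [h2])
  obtain ⟨τ, hτ, -, hτfix⟩ := hperm x hx hxL
  obtain ⟨⟨P, hP⟩, hfix⟩ := exists_fixed τ hτ hodd
  obtain ⟨w, hw, rfl⟩ := Finset.mem_image.1 hP
  obtain ⟨hw2, hwL⟩ := mem_invols.1 hw
  exact ⟨w, hw2, hwL, hτfix w hP hw2 hwL hfix⟩

/-- An involution inverts no element, other than 1 and involutions, whose centraliser contains an
involution. -/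
theorem not_inverted (H : Hyp G) {x a v : G} (hx : orderOf x = 2) (ha : x * a * x⁻¹ = a⁻¹)
    (hv : orderOf v = 2) (hc : a ∈ A v) : a * a = 1 := by
  have hxL : ∀ y ∈ A a, x * y * x⁻¹ ∈ A a := fun y hy => by
    refine mem_A.2 ?_
    have h1 : Commute (x * y * x⁻¹) (x * a * x⁻¹) := (mem_A.1 hy).map (MulAut.conj x).toMonoidHom
    rw [ha] at h1
    have h2 := h1.inv_right
    rwa [inv_inv] at h2
  obtain ⟨w, hw, hwL, hxw⟩ := exists_fixed_point H hv (mem_A.2 (mem_A.1 hc).symm) hx hxL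
  have h1 : Commute x a := H.comm w hw x hxw a (mem_A.2 (mem_A.1 hwL).symm)
  rw [h1.eq, mul_inv_cancel_right] at ha
  exact eq_inv_iff_mul_eq_one.1 ha

end Cfsg.Agent.H65.AbInv
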