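import Cfsg.Agent.H65.AbInv.Zass

/-!
# Abelian involution centralisers: intersections are central

By induction on the order: if `k` lies in two different involution centralisers and is not central,
its centraliser is strongly embedded and satisfies the hypotheses, and this is impossible.
-/

set_option autoImplicit false
set_option linter.unusedSectionVars false
set_option linter.style.haveILetI false

namespace Cfsg.Agent.H65.AbInv

universe u

variable {G : Type u} [Group G] [Finite G]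

omit [Finite G] in
theorem mem_A_sub {L : Subgroup G} {a w : ↥L} : a ∈ A w ↔ (a : G) ∈ A (w : G) :=
  ⟨fun h => mem_A.2 ((mem_A.1 h).map L.subtype), fun h => mem_A.2 (Subtype.ext (mem_A.1 h).eq)⟩

/-- A full subgroup with two different involution centralisers inherits the hypotheses. -/
theorem hyp_sub (H : Hyp G) {L : Subgroup G} (hF : Full L) {t v : G} (ht : orderOf t = 2)
    (htL : t ∈ L) (hv : orderOf v = 2) (hvL : v ∈ L) (hvt : v ∉ A t) : Hyp ↥L where
  comm w hw a ha b hb :=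
    Subtype.ext (H.comm w ((Subgroup.orderOf_coe w).trans hw) _ (mem_A_sub.1 ha) _ (mem_A_sub.1 hb)).eq
  one a b ha hb := by
    obtain ⟨l, hl, h⟩ := full_conj H hF ((Subgroup.orderOf_coe a).trans ha) a.2
      ((Subgroup.orderOf_coe b).trans hb) b.2
    exact isConj_iff.2 ⟨⟨l, hl⟩, Subtype.ext h⟩
  rank w hw := by
    obtain ⟨x, hx, hne, hc⟩ := H.rank w ((Subgroup.orderOf_coe w).trans hw)
    refine ⟨⟨x, hF.closed w w.2 ((Subgroup.orderOf_coe w).trans hw) (mem_A.2 hc)⟩, ?_,
      fun e => hne (congrArg Subtype.val e), Subtype.ext hc.eq⟩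
    rw [← Subgroup.orderOf_coe]; exact hx
  proper w hw := by
    intro htop
    have hw' := (Subgroup.orderOf_coe w).trans hw
    have hmem : ∀ s : G, orderOf s = 2 → s ∈ L → s ∈ A (w : G) := by
      intro s hs hsL
      refine invol_mem_A H hw' hs ((mem_N_iff H hw').2 ?_)
      exact mem_A_sub.1 (conj_mem_of_mem_N (g := (⟨s, hsL⟩ : ↥L)) (htop ▸ Subgroup.mem_top _)
        (self_mem w))
    apply hvt
    rw [A_eq_of_mem H hw' ht (hmem t ht htL)]
    exact hmem v hv hvL

theorem central_aux (n : ℕ) : ∀ (G : Type u) [Group G] [Finite G], Nat.card G = n → Hyp G →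
    Central G := by
  induction n using Nat.strong_induction_on with
  | _ n ih =>
  intro G _ _ hn H t v ht hv hvt k hk
  obtain ⟨hkt, hkv⟩ := Subgroup.mem_inf.1 hk
  by_contra hkc
  set L := Subgroup.centralizer ({k} : Set G) with hL
  have hne : L ≠ ⊤ := fun h => hkc (Subgroup.mem_center_iff.2 fun g =>
    (mem_A.1 (show g ∈ A k by rw [A, ← hL, h]; exact Subgroup.mem_top g)).eq)
  have hF : Full L := full_centralizer H ht hv hvt hkt hkv
  have htL : t ∈ L := mem_A.2 (mem_A.1 hkt).symm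
  have hvL : v ∈ L := mem_A.2 (mem_A.1 hkv).symm
  have Hs := hyp_sub H hF ht htL hv hvL hvt
  have hlt : Nat.card ↥L < n := by
    rw [← hn]
    refine lt_of_le_of_ne (Subgroup.card_le_card_group _) fun h => hne (Subgroup.eq_top_of_card_eq L h)
  have hcs : Central ↥L := ih _ hlt ↥L rfl Hs
  set t' : ↥L := ⟨t, htL⟩ with ht'def
  have ht' : orderOf t' = 2 := by rw [← Subgroup.orderOf_coe]; exact ht
  obtain ⟨x, hxL⟩ : ∃ x, x ∉ L := by
    by_contra h
    push Not at h
    exact hne ((Subgroup.eq_top_iff' _).2 h)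
  have hSE := full_se H hF hne ht htL
  have hodd := hSE.2.2 x hxL
  set E : Subgroup ↥L := (L ⊓ L.map (MulAut.conj x).toMonoidHom).subgroupOf L with hE
  have hEodd : ∀ e ∈ E, Odd (orderOf e) := fun e he => by
    rw [← Subgroup.orderOf_coe]; exact orderOf_odd_of_mem hodd (Subgroup.mem_subgroupOf.1 he)
  have hEtr : ∀ w : ↥L, orderOf w = 2 → ∃ e ∈ E, e * t' * e⁻¹ = w := by
    intro w hw
    obtain ⟨d, hd, hdw⟩ := H39.se_transitive hSE hxL ht htL ((Subgroup.orderOf_coe w).trans hw) w.2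
    exact ⟨⟨d, (Subgroup.mem_inf.1 hd).1⟩, hd, Subtype.ext hdw⟩
  have hEA : ∀ a ∈ E, a ∈ A t' → a ∈ Subgroup.center ↥L := by
    intro a ha hat
    obtain ⟨j, hj⟩ := hEodd a ha
    have : (a * a) ^ (j + 1) = a := by
      rw [← pow_two, ← pow_mul, show 2 * (j + 1) = orderOf a + 1 by omega, pow_succ,
        pow_orderOf_eq_one, one_mul]
    exact this ▸ Subgroup.pow_mem _ (sq_center Hs hcs ht' hat) _
  -- an element of `E` in `N t' ∖ A t'`
  obtain ⟨w, hw, hwt, hwc⟩ := Hs.rank t' ht'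
  obtain ⟨n', hn'E, hn'w⟩ := hEtr w hw
  have hn'N : n' ∈ N t' := (mem_N_iff Hs ht').2 (hn'w.symm ▸ mem_A.2 hwc)
  have hn'A : n' ∉ A t' := fun h => hwt (by
    rw [← hn'w, (mem_A.1 h).eq, mul_inv_cancel_right])
  obtain ⟨p, hp, hpt, hn'p⟩ := exists_fixed_invol Hs hcs ht' hn'N hn'A
  -- `E ⊓ N t'` fixes `p`
  have hfix : ∀ f ∈ E, f ∈ N t' → f ∈ N p := by
    intro f hf hfN
    have hz : f * n' * f⁻¹ * n'⁻¹ ∈ Subgroup.center ↥L :=
      hEA _ (E.mul_mem (E.mul_mem (E.mul_mem hf hn'E) (E.inv_mem hf)) (E.inv_mem hn'E))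
        (comm_N Hs hcs ht' hfN hn'N)
    set r := f * p * f⁻¹ with hr
    have h1 : f * n' * f⁻¹ ∈ N r := conj_mem_N n' hn'p
    have h2 : n' ∈ N r := by
      have := (N r).mul_mem ((N r).inv_mem (A_le_N r (center_le r hz))) h1
      rwa [show (f * n' * f⁻¹ * n'⁻¹)⁻¹ * (f * n' * f⁻¹) = n' by group] at this
    have hrt : r ∉ A t' := fun h => hpt (by
      have h3 := conj_mem_A f⁻¹ h
      rw [show f⁻¹ * r * f⁻¹⁻¹ = p by rw [hr]; group] at h3
      have h4 : A (f⁻¹ * t' * f⁻¹⁻¹) = A t' := eq_of_mem_N ((N t').inv_mem hfN)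
      rwa [h4] at h3)
    refine (mem_N_iff Hs hp).2 ?_
    by_contra hrp
    exact hn'A (center_le t' (center_of_three Hs hcs ht' hp (conj_order f hp) hpt hrt hrp
      hn'N hn'p h2))
  obtain ⟨e, heE, hep⟩ := hEtr p hp
  set T1 := E ⊓ N t' with hT1
  have hle : T1 ≤ T1.map (MulAut.conj e).toMonoidHom := by
    intro y hy
    refine ⟨e⁻¹ * y * e, ⟨E.mul_mem (E.mul_mem (E.inv_mem heE) hy.1) heE, ?_⟩, by
      show e * (e⁻¹ * y * e) * e⁻¹ = y; group⟩
    have h3 := conj_mem_N (g := e⁻¹) y (hfix y hy.1 hy.2)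
    rwa [show e⁻¹ * p * e⁻¹⁻¹ = t' by rw [← hep]; group, inv_inv] at h3
  have hEq : T1 = T1.map (MulAut.conj e).toMonoidHom :=
    Subgroup.eq_of_le_of_card_ge hle
      (Subgroup.card_map_of_injective (MulAut.conj e).injective).le
  have hmap : ∀ y ∈ T1, e * y * e⁻¹ ∈ T1 := fun y hy => by
    rw [hEq]; exact ⟨y, hy, rfl⟩
  set r := e * p * e⁻¹ with hr
  have hn'r : n' ∈ N r := by
    have h1 : n' ∈ T1 := ⟨hn'E, hn'N⟩
    rw [hEq] at h1
    obtain ⟨y, hy, hye⟩ := h1
    rw [← hye]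
    exact conj_mem_N y (hfix y hy.1 hy.2)
  have hrp : r ∉ A p := fun h => hpt (by
    rw [← conj_mem_A_iff e, hep]
    exact h)
  have hrt : r ∈ A t' := by
    by_contra hrt
    exact hn'A (center_le t' (center_of_three Hs hcs ht' hp (conj_order e hp) hpt hrt hrp
      hn'N hn'p hn'r))
  have he2 : e * e ∈ N t' := (mem_N_iff Hs ht').2 (by
    rw [show e * e * t' * (e * e)⁻¹ = e * (e * t' * e⁻¹) * e⁻¹ by group, hep]
    exact hrt)
  obtain ⟨j, hj⟩ := hEodd e heE
  have : (e * e) ^ (j + 1) = e := by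
    rw [← pow_two, ← pow_mul, show 2 * (j + 1) = orderOf e + 1 by omega, pow_succ,
      pow_orderOf_eq_one, one_mul]
  exact hpt (hep ▸ conj_mem_of_mem_N (this ▸ (N t').pow_mem he2 _) (self_mem t'))

/-- Different involution centralisers meet in the centre. -/
theorem central (H : Hyp G) : Central G := central_aux _ G rfl H

end Cfsg.Agent.H65.AbInv
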