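import Cfsg.Agent.H65.AbInv.Points

/-!
# Abelian involution centralisers: the case of central intersections

If two different involution centralisers meet in the centre, then modulo the centre the action on
the conjugates of `A t` has trivial three-point stabilisers and `A t` is regular off its own point.
-/

set_option autoImplicit false
set_option linter.unusedSectionVars false
set_option linter.style.haveILetI false

namespace Cfsg.Agent.H65.AbInv

open MulAction

universe u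

variable {G : Type u} [Group G] [Finite G]

/-- Different involution centralisers meet in the centre. -/
def Central (G : Type u) [Group G] : Prop :=
  ∀ t v : G, orderOf t = 2 → orderOf v = 2 → v ∉ A t → A t ⊓ A v ≤ Subgroup.center G

omit [Finite G] in
theorem center_le (v : G) : Subgroup.center G ≤ A v := fun _ hz =>
  mem_A.2 (Subgroup.mem_center_iff.1 hz v).symm

omit [Finite G] in
theorem conj_center {z : G} (hz : z ∈ Subgroup.center G) (g : G) : g * z * g⁻¹ = z := by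
  rw [Subgroup.mem_center_iff.1 hz g, mul_inv_cancel_right]

omit [Finite G] in
/-- Conjugation by `g` acts on `A v` as conjugation by any `e` in the coset `g A v`. -/
theorem conj_eq_of_coset (H : Hyp G) {v g e y : G} (hv : orderOf v = 2) (he : e⁻¹ * g ∈ A v)
    (hy : y ∈ A v) : g * y * g⁻¹ = e * y * e⁻¹ := by
  have h : Commute (e⁻¹ * g) y := H.comm v hv _ he _ hy
  calc g * y * g⁻¹ = e * ((e⁻¹ * g) * y) * g⁻¹ := by group
    _ = e * (y * (e⁻¹ * g)) * g⁻¹ := by rw [h.eq]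
    _ = _ := by group

variable (H : Hyp G)

include H in
theorem exists_not_mem {t : G} (ht : orderOf t = 2) :
    ∃ v, orderOf v = 2 ∧ v ∉ A t := by
  obtain ⟨g, hg⟩ : ∃ g, g ∉ N t := by
    by_contra h
    push Not at h
    exact H.proper t ht ((Subgroup.eq_top_iff' _).2 h)
  exact ⟨g * t * g⁻¹, conj_order g ht, fun h => hg ((mem_N_iff H ht).2 h)⟩

include H in
theorem not_center {z : G} (hz : orderOf z = 2) : z ∉ Subgroup.center G := fun h =>
  H.proper z hz (top_le_iff.1 (le_trans (fun x _ => mem_A.2 (Subgroup.mem_center_iff.1 h x))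
    (A_le_N z)))

include H in
theorem odd_center : Odd (Nat.card ↥(Subgroup.center G)) := by
  rw [← Nat.not_even_iff_odd]
  intro he
  haveI : Fact (Nat.Prime 2) := ⟨Nat.prime_two⟩
  obtain ⟨z, hz⟩ := exists_prime_orderOf_dvd_card' 2 (even_iff_two_dvd.1 he)
  exact not_center H ((Subgroup.orderOf_coe z).trans hz) z.2

variable (hc : Central G)

include H hc in
theorem center_of_A_inf_N {t v a : G} (ht : orderOf t = 2) (hv : orderOf v = 2) (hvt : v ∉ A t)
    (hat : a ∈ A t) (han : a ∈ N v) : a ∈ Subgroup.center G :=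
  hc t v ht hv hvt ⟨hat, A_inf_N_le H ht hv hat han⟩

include H in
theorem odd_order_two_point {t v e : G} (ht : orderOf t = 2) (hv : orderOf v = 2) (hvt : v ∉ A t)
    (het : e ∈ N t) (hev : e ∈ N v) : Odd (orderOf e) := by
  rw [← Nat.not_even_iff_odd]
  intro he
  obtain ⟨k, hk⟩ := he
  have ho : orderOf (e ^ k) = 2 := by
    have hpos := orderOf_pos e
    rw [orderOf_pow, hk, show k + k = 2 * k by omega, Nat.gcd_mul_left_left]
    exact Nat.mul_div_left 2 (by omega)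
  apply hvt
  rw [← A_eq_of_mem H ht ho (invol_mem_A H ht ho ((N t).pow_mem het k)),
    A_eq_of_mem H hv ho (invol_mem_A H hv ho ((N v).pow_mem hev k))]
  exact self_mem v

include H in
theorem center_of_sq {t v e : G} (ht : orderOf t = 2) (hv : orderOf v = 2) (hvt : v ∉ A t)
    (het : e ∈ N t) (hev : e ∈ N v) (h : e * e ∈ Subgroup.center G) : e ∈ Subgroup.center G := by
  obtain ⟨k, hk⟩ := odd_order_two_point H ht hv hvt het hev
  have : (e * e) ^ (k + 1) = e := by
    rw [← pow_two, ← pow_mul, show 2 * (k + 1) = orderOf e + 1 by omega, pow_succ,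
      pow_orderOf_eq_one, one_mul]
  exact this ▸ Subgroup.pow_mem _ h _

include H in
/-- Every coset of `A t` in `N t` has a representative in `N v` inverted by the swapping
involution. -/
theorem exists_rep {t v x n : G} (ht : orderOf t = 2) (hv : orderOf v = 2) (hvt : v ∉ A t)
    (hx : orderOf x = 2) (hxt : x * t * x⁻¹ = v) (hn : n ∈ N t) :
    ∃ e, e ∈ N t ∧ e ∈ N v ∧ x * e * x⁻¹ = e⁻¹ ∧ e⁻¹ * n ∈ A t := by
  have hxN : x ∉ N t := fun h => hvt (hxt ▸ conj_mem_of_mem_N h (self_mem t))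
  obtain ⟨e, he, hxe, hinv, het⟩ := exists_inverted H (full_N H ht) hx hxN ht
    (A_le_N t (self_mem t)) (conj_order n ht) (A_le_N t (conj_mem_of_mem_N hn (self_mem t)))
  refine ⟨e, he, ?_, hinv, mem_A.2 ?_⟩
  · have h := conj_mem_N (g := x) _ hxe
    rwa [hxt, show x * (x * e * x⁻¹) * x⁻¹ = (x * x) * e * (x * x)⁻¹ by group, mul_self_eq_one hx,
      one_mul, inv_one, mul_one] at h
  · show e⁻¹ * n * t = t * (e⁻¹ * n)
    calc e⁻¹ * n * t = e⁻¹ * (n * t * n⁻¹) * n := by group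
      _ = e⁻¹ * (e * t * e⁻¹) * n := by rw [het]
      _ = _ := by group

include H hc in
/-- Modulo the centre a swapping involution inverts the two-point stabiliser. -/
theorem inv_center {t v x e : G} (ht : orderOf t = 2) (hv : orderOf v = 2) (hvt : v ∉ A t)
    (hx : orderOf x = 2) (hxt : x * t * x⁻¹ = v) (het : e ∈ N t) (hev : e ∈ N v) :
    x * e * x⁻¹ * e ∈ Subgroup.center G := by
  obtain ⟨f, hft, hfv, hinv, hf⟩ := exists_rep H ht hv hvt hx hxt het
  have hz := center_of_A_inf_N H hc ht hv hvt hf ((N v).mul_mem ((N v).inv_mem hfv) hev)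
  set z := f⁻¹ * e with hzdef
  have he : e = f * z := by rw [hzdef, mul_inv_cancel_left]
  have : x * e * x⁻¹ * e = z * z := by
    calc x * e * x⁻¹ * e = (x * f * x⁻¹) * (x * z * x⁻¹) * (f * z) := by rw [he]; group
      _ = f⁻¹ * (z * f) * z := by rw [conj_center hz, hinv]; group
      _ = f⁻¹ * (f * z) * z := by rw [Subgroup.mem_center_iff.1 hz f]
      _ = z * z := by group
  rw [this]; exact mul_mem hz hz

include H hc in
/-- `N t / A t` is abelian. -/
theorem comm_N {t n₁ n₂ : G} (ht : orderOf t = 2) (h₁ : n₁ ∈ N t) (h₂ : n₂ ∈ N t) :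
    n₁ * n₂ * n₁⁻¹ * n₂⁻¹ ∈ A t := by
  obtain ⟨v, hv, hvt⟩ := exists_not_mem H ht
  obtain ⟨x, hx, hxt⟩ := exists_swap H ht hv hvt
  obtain ⟨e₁, he₁t, he₁v, hi₁, ha₁⟩ := exists_rep H ht hv hvt hx hxt h₁
  obtain ⟨e₂, he₂t, he₂v, hi₂, ha₂⟩ := exists_rep H ht hv hvt hx hxt h₂
  have hz := inv_center H hc ht hv hvt hx hxt ((N t).mul_mem he₁t he₂t) ((N v).mul_mem he₁v he₂v)
  rw [show x * (e₁ * e₂) * x⁻¹ = (x * e₁ * x⁻¹) * (x * e₂ * x⁻¹) by group, hi₁, hi₂] at hz
  set z := e₁⁻¹ * e₂⁻¹ * (e₁ * e₂) with hzdef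
  have he : e₁ * e₂ = e₂ * e₁ * z := by rw [hzdef]; group
  have key : (n₁ * n₂) * t * (n₁ * n₂)⁻¹ = (n₂ * n₁) * t * (n₂ * n₁)⁻¹ := by
    calc (n₁ * n₂) * t * (n₁ * n₂)⁻¹ = n₁ * (n₂ * t * n₂⁻¹) * n₁⁻¹ := by group
      _ = n₁ * (e₂ * t * e₂⁻¹) * n₁⁻¹ := by rw [conj_eq_of_coset H ht ha₂ (self_mem t)]
      _ = e₁ * (e₂ * t * e₂⁻¹) * e₁⁻¹ :=
        conj_eq_of_coset H ht ha₁ (conj_mem_of_mem_N he₂t (self_mem t))
      _ = (e₁ * e₂) * t * (e₁ * e₂)⁻¹ := by group
      _ = (e₂ * e₁) * (z * t * z⁻¹) * (e₂ * e₁)⁻¹ := by rw [he]; group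
      _ = (e₂ * e₁) * t * (e₂ * e₁)⁻¹ := by
        rw [← Subgroup.mem_center_iff.1 hz t, mul_inv_cancel_right]
      _ = e₂ * (e₁ * t * e₁⁻¹) * e₂⁻¹ := by group
      _ = n₂ * (e₁ * t * e₁⁻¹) * n₂⁻¹ :=
        (conj_eq_of_coset H ht ha₂ (conj_mem_of_mem_N he₁t (self_mem t))).symm
      _ = n₂ * (n₁ * t * n₁⁻¹) * n₂⁻¹ := by rw [conj_eq_of_coset H ht ha₁ (self_mem t)]
      _ = _ := by group
  have h3 : (n₂ * n₁)⁻¹ * (n₁ * n₂) ∈ A t := mem_A.2 (by
    show (n₂ * n₁)⁻¹ * (n₁ * n₂) * t = t * ((n₂ * n₁)⁻¹ * (n₁ * n₂))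
    calc (n₂ * n₁)⁻¹ * (n₁ * n₂) * t
        = (n₂ * n₁)⁻¹ * ((n₁ * n₂) * t * (n₁ * n₂)⁻¹) * (n₁ * n₂) := by group
      _ = (n₂ * n₁)⁻¹ * ((n₂ * n₁) * t * (n₂ * n₁)⁻¹) * (n₁ * n₂) := by rw [key]
      _ = _ := by group)
  have h4 := conj_mem_of_mem_N ((N t).mul_mem h₂ h₁) h3
  rwa [show n₂ * n₁ * ((n₂ * n₁)⁻¹ * (n₁ * n₂)) * (n₂ * n₁)⁻¹ = n₁ * n₂ * n₁⁻¹ * n₂⁻¹ by group] at h4

include H hc in
/-- The three-point stabilisers are central. -/
theorem center_of_three {t v w e : G} (ht : orderOf t = 2) (hv : orderOf v = 2)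
    (hw : orderOf w = 2) (hvt : v ∉ A t) (hwt : w ∉ A t) (hwv : w ∉ A v) (het : e ∈ N t)
    (hev : e ∈ N v) (hew : e ∈ N w) : e ∈ Subgroup.center G := by
  obtain ⟨x, hx, hxt⟩ := exists_swap H ht hv hvt
  obtain ⟨y, hy, hyt⟩ := exists_swap H ht hw hwt
  set r := x * w * x⁻¹ with hrdef
  have hr : orderOf r = 2 := conj_order x hw
  have hzx := inv_center H hc ht hv hvt hx hxt het hev
  have hzy := inv_center H hc ht hw hwt hy hyt het hew
  have her : e ∈ N r := by
    have h1 : x * e * x⁻¹ ∈ N r := conj_mem_N e hew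
    have h2 := (N r).mul_mem ((N r).inv_mem h1) (A_le_N r (center_le r hzx))
    rwa [inv_mul_cancel_left] at h2
  have hrt : r ∉ A t := fun h => hwv (by
    have := conj_mem_A x h
    rwa [hxt, hrdef, show x * (x * w * x⁻¹) * x⁻¹ = (x * x) * w * (x * x)⁻¹ by group,
      mul_self_eq_one hx, one_mul, inv_one, mul_one] at this)
  obtain ⟨p, hp, hpt⟩ := exists_swap H ht hr hrt
  have hzp := inv_center H hc ht hr hrt hp hpt het her
  set n := p * x * y with hndef
  have hn : n ∈ A t := mem_A.2 (mul_inv_eq_iff_eq_mul.1 (by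
    rw [hndef, show p * x * y * t * (p * x * y)⁻¹ = p * (x * (y * t * y⁻¹) * x⁻¹) * p⁻¹ by group, hyt,
      ← hrdef, swap_mem H hr hp hpt]))
  have h1 : n * e * n⁻¹ * e = (y * e * y⁻¹ * e) * (x * e * x⁻¹ * e)⁻¹ * (p * e * p⁻¹ * e) := by
    have e2 : n * e * n⁻¹ = p * (x * (y * e * y⁻¹ * e) * x⁻¹) * p⁻¹ *
        (p * (e * (x * e * x⁻¹ * e)⁻¹) * p⁻¹) := by rw [hndef]; group
    rw [e2, conj_center hzy, conj_center hzy,
      show p * (e * (x * e * x⁻¹ * e)⁻¹) * p⁻¹ = p * e * p⁻¹ * (p * (x * e * x⁻¹ * e)⁻¹ * p⁻¹) by group,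
      conj_center ((Subgroup.center G).inv_mem hzx),
      Subgroup.mem_center_iff.1 ((Subgroup.center G).inv_mem hzx) (p * e * p⁻¹)]
    group
  have hz : n * e * n⁻¹ * e ∈ Subgroup.center G := by
    rw [h1]; exact mul_mem (mul_mem hzy (inv_mem hzx)) hzp
  have hA : n * e * n⁻¹ * e⁻¹ ∈ A t := by
    rw [show n * e * n⁻¹ * e⁻¹ = n * (e * n⁻¹ * e⁻¹) by group]
    exact mul_mem hn (conj_mem_of_mem_N het (inv_mem hn))
  have h2 : e * e ∈ A t := by
    rw [show e * e = (n * e * n⁻¹ * e⁻¹)⁻¹ * (n * e * n⁻¹ * e) by group]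
    exact mul_mem (inv_mem hA) (center_le t hz)
  exact center_of_sq H ht hv hvt het hev
    (center_of_A_inf_N H hc ht hv hvt h2 ((N v).mul_mem hev hev))

omit [Finite G] in
/-- The point `g • base` is fixed by the normaliser of `A (g t g⁻¹)`. -/
theorem smul_mk_iff {t g n : G} :
    n • (QuotientGroup.mk g : G ⧸ N t) = QuotientGroup.mk g ↔ n ∈ N (g * t * g⁻¹) := by
  rw [MulAction.Quotient.smul_mk, QuotientGroup.eq, smul_eq_mul]
  constructor
  · intro h
    have h2 := conj_mem_N (g := g) _ ((N t).inv_mem h)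
    rwa [show g * ((n * g)⁻¹ * g)⁻¹ * g⁻¹ = n by group] at h2
  · intro h
    have h2 := conj_mem_N (g := g⁻¹) _ ((N (g * t * g⁻¹)).inv_mem h)
    rwa [show g⁻¹ * n⁻¹ * g⁻¹⁻¹ = (n * g)⁻¹ * g by group,
      show g⁻¹ * (g * t * g⁻¹) * g⁻¹⁻¹ = t by group] at h2

omit [Finite G] in
theorem smul_base_iff {t n : G} :
    n • (QuotientGroup.mk (1 : G) : G ⧸ N t) = QuotientGroup.mk 1 ↔ n ∈ N t := by
  rw [smul_mk_iff, one_mul, inv_one, mul_one]

include H in
theorem conj_not_mem {t g : G} (ht : orderOf t = 2)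
    (hg : (QuotientGroup.mk g : G ⧸ N t) ≠ QuotientGroup.mk 1) : g * t * g⁻¹ ∉ A t := fun h =>
  hg (QuotientGroup.eq.2 (by rw [mul_one]; exact (N t).inv_mem ((mem_N_iff H ht).2 h)))

/-- The two-point stabiliser. -/
abbrev two {t : G} (P : G ⧸ N t) : Subgroup G :=
  stabilizer G (QuotientGroup.mk (1 : G) : G ⧸ N t) ⊓ stabilizer G P

omit [Finite G] in
theorem center_fix {t z : G} (hz : z ∈ Subgroup.center G) (P : G ⧸ N t) : z • P = P := by
  induction P using QuotientGroup.induction_on with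
  | _ g => exact smul_mk_iff.2 (A_le_N _ (center_le _ hz))

omit [Finite G] in
theorem center_le_two {t : G} (P : G ⧸ N t) : Subgroup.center G ≤ two P := fun _ hz =>
  Subgroup.mem_inf.2 ⟨center_fix hz _, center_fix hz _⟩

include H hc in
theorem center_of_fix {t a : G} (ht : orderOf t = 2) (ha : a ∈ A t) {P : G ⧸ N t}
    (hP : P ≠ QuotientGroup.mk 1) (h : a • P = P) : a ∈ Subgroup.center G := by
  induction P using QuotientGroup.induction_on with
  | _ g => exact center_of_A_inf_N H hc ht (conj_order g ht) (conj_not_mem H ht hP) ha (smul_mk_iff.1 h)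

include H hc in
theorem center_of_three_points {t e : G} (ht : orderOf t = 2) {P Q : G ⧸ N t}
    (hP : P ≠ QuotientGroup.mk 1) (hQ : Q ≠ QuotientGroup.mk 1) (hPQ : P ≠ Q)
    (h1 : e • (QuotientGroup.mk (1 : G) : G ⧸ N t) = QuotientGroup.mk 1) (h2 : e • P = P)
    (h3 : e • Q = Q) : e ∈ Subgroup.center G := by
  induction P using QuotientGroup.induction_on with
  | _ g =>
  induction Q using QuotientGroup.induction_on with
  | _ h =>
  refine center_of_three H hc ht (conj_order g ht) (conj_order h ht) (conj_not_mem H ht hP)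
    (conj_not_mem H ht hQ) (fun hh => hPQ (QuotientGroup.eq.2 ?_))
    (smul_base_iff.1 h1) (smul_mk_iff.1 h2) (smul_mk_iff.1 h3)
  refine (mem_N_iff H ht).2 ?_
  rw [← conj_mem_A_iff g, show g * (g⁻¹ * h * t * (g⁻¹ * h)⁻¹) * g⁻¹ = h * t * h⁻¹ by group]
  exact hh

/-- The index of `A t` in its normaliser. -/
noncomputable abbrev idx (t : G) : ℕ := Nat.card (↥(N t) ⧸ (A t).subgroupOf (N t))

omit [Finite G] in
theorem card_N (t : G) : Nat.card ↥(N t) = idx t * Nat.card ↥(A t) := by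
  rw [Subgroup.card_eq_card_quotient_mul_card_subgroup ((A t).subgroupOf (N t)),
    Nat.card_congr (Subgroup.subgroupOfEquivOfLe (A_le_N t)).toEquiv]

include H in
theorem two_le_idx {t : G} (ht : orderOf t = 2) : 2 ≤ idx t := by
  obtain ⟨w, hw, hwt, hc'⟩ := H.rank t ht
  obtain ⟨g, hg⟩ := isConj_iff.1 (H.one t w ht hw)
  have hwA : w ∈ A t := mem_A.2 hc'
  have hgN : g ∈ N t := (mem_N_iff H ht).2 (hg.symm ▸ hwA)
  by_contra hlt
  have hgA : g ∈ A t := by
    have h1 : (↑(⟨g, hgN⟩ : ↥(N t)) : ↥(N t) ⧸ (A t).subgroupOf (N t)) = ↑(1 : ↥(N t)) := by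
      haveI : Subsingleton (↥(N t) ⧸ (A t).subgroupOf (N t)) :=
        (Finite.card_le_one_iff_subsingleton).1 (by unfold idx at hlt; omega)
      exact Subsingleton.elim _ _
    rw [QuotientGroup.eq, mul_one, inv_mem_iff, Subgroup.mem_subgroupOf] at h1
    exact h1
  exact hwt (by rw [← hg, (mem_A.1 hgA).eq, mul_inv_cancel_right])

include H hc in
theorem card_two {t : G} (ht : orderOf t = 2) {P : G ⧸ N t} (hP : P ≠ QuotientGroup.mk 1) :
    Nat.card ↥(two P) = idx t * Nat.card ↥(Subgroup.center G) := by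
  obtain ⟨g, rfl⟩ := QuotientGroup.mk_surjective P
  have hv := conj_order g ht
  have hvt := conj_not_mem H ht hP
  obtain ⟨x, hx, hxt⟩ := exists_swap H ht hv hvt
  have hle : two (QuotientGroup.mk g : G ⧸ N t) ≤ N t := fun d hd =>
    smul_base_iff.1 (Subgroup.mem_inf.1 hd).1
  let ψ : ↥(two (QuotientGroup.mk g : G ⧸ N t)) →* ↥(N t) ⧸ (A t).subgroupOf (N t) :=
    (QuotientGroup.mk' _).comp (Subgroup.inclusion hle)
  have hsurj : Function.Surjective ψ := by
    intro q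
    obtain ⟨⟨n, hn⟩, rfl⟩ := QuotientGroup.mk_surjective q
    obtain ⟨e, het, hev, -, hea⟩ := exists_rep H ht hv hvt hx hxt hn
    exact ⟨⟨e, ⟨smul_base_iff.2 het, smul_mk_iff.2 hev⟩⟩, QuotientGroup.eq.2 hea⟩
  have hker : Nat.card ↥ψ.ker = Nat.card ↥(Subgroup.center G) := by
    have hk : ψ.ker = (Subgroup.center G).subgroupOf (two (QuotientGroup.mk g : G ⧸ N t)) := by
      ext ⟨d, hd⟩
      rw [MonoidHom.mem_ker, MonoidHom.comp_apply, QuotientGroup.mk'_apply, QuotientGroup.eq_one_iff,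
        Subgroup.mem_subgroupOf, Subgroup.mem_subgroupOf]
      exact ⟨fun h => center_of_fix H hc ht h hP (Subgroup.mem_inf.1 hd).2, fun h => center_le t h⟩
    rw [hk, Nat.card_congr (Subgroup.subgroupOfEquivOfLe (center_le_two _)).toEquiv]
  rw [Subgroup.card_eq_card_quotient_mul_card_subgroup ψ.ker, hker,
    Nat.card_congr (QuotientGroup.quotientKerEquivOfSurjective ψ hsurj).toEquiv]

omit [Finite G] in
theorem card_sub_of_le [Finite G] {K L : Subgroup G} (h : L ≤ K) :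
    Nat.card {x : G // x ∈ K ∧ x ∉ L} = Nat.card ↥K - Nat.card ↥L := by
  classical
  haveI := Fintype.ofFinite G
  rw [Nat.card_eq_fintype_card, Nat.card_eq_fintype_card, Nat.card_eq_fintype_card,
    Fintype.card_subtype, Fintype.card_subtype, Fintype.card_subtype,
    ← Finset.card_sdiff_of_subset (fun x hx => by
      rw [Finset.mem_filter] at hx ⊢
      exact ⟨hx.1, h hx.2⟩)]
  congr 1
  ext x
  simp [and_comm]

include H hc in
/-- `A t` is regular modulo the centre off the base point, and every element of `N t` outside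
`A t` fixes a further point. -/
theorem regular {t : G} (ht : orderOf t = 2) :
    Nat.card {P : G ⧸ N t // P ≠ QuotientGroup.mk 1} * Nat.card ↥(Subgroup.center G) =
      Nat.card ↥(A t) ∧
    (∀ P Q : G ⧸ N t, P ≠ QuotientGroup.mk 1 → Q ≠ QuotientGroup.mk 1 →
      ∃ a ∈ A t, a • P = Q) ∧
    ∀ n ∈ N t, n ∉ A t → ∃ P : G ⧸ N t, P ≠ QuotientGroup.mk 1 ∧ n • P = P := by
  classical
  set Pt := {P : G ⧸ N t // P ≠ QuotientGroup.mk 1}
  set z := Nat.card ↥(Subgroup.center G) with hzdef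
  set Q' := ↥(A t) ⧸ (Subgroup.center G).subgroupOf (A t)
  have hA : Nat.card ↥(A t) = Nat.card Q' * z := by
    rw [Subgroup.card_eq_card_quotient_mul_card_subgroup ((Subgroup.center G).subgroupOf (A t)),
      Nat.card_congr (Subgroup.subgroupOfEquivOfLe (center_le t)).toEquiv]
  have hpt : ∀ (a : ↥(A t)) (P : Pt), (a : G) • P.1 ≠ QuotientGroup.mk 1 := fun a P h => P.2 (by
    rw [← inv_smul_smul (a : G) P.1, h, smul_base_iff]
    exact (N t).inv_mem (A_le_N t a.2))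
  let f : Pt → Q' → Pt := fun P q => ⟨(q.out : G) • P.1, hpt q.out P⟩
  have hf : ∀ P, Function.Injective (f P) := by
    intro P q q' h
    rw [← q.out_eq', ← q'.out_eq', QuotientGroup.eq, Subgroup.mem_subgroupOf]
    refine center_of_fix H hc ht ((A t).mul_mem ((A t).inv_mem q.out.2) q'.out.2) P.2 ?_
    have h' : (q.out : G) • P.1 = (q'.out : G) • P.1 := congrArg Subtype.val h
    rw [Subgroup.coe_mul, Subgroup.coe_inv, mul_smul, ← h', inv_smul_smul]
  -- the elements of the two-point stabilisers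
  let D : Pt → Type u := fun P => {d : G // d ∈ two P.1 ∧ d ∉ Subgroup.center G}
  have hD : ∀ P, Nat.card (D P) = (idx t - 1) * z := fun P => by
    rw [show Nat.card (D P) = Nat.card {d : G // d ∈ two P.1 ∧ d ∉ Subgroup.center G} from rfl,
      card_sub_of_le (center_le_two _), card_two H hc ht P.2,
      Nat.sub_one_mul]
  let F : (Σ P : Pt, D P) → {n : G // n ∈ N t ∧ n ∉ A t} := fun p =>
    ⟨p.2.1, smul_base_iff.1 (Subgroup.mem_inf.1 p.2.2.1).1, fun h =>
      p.2.2.2 (center_of_fix H hc ht h p.1.2 (Subgroup.mem_inf.1 p.2.2.1).2)⟩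
  have hF : Function.Injective F := by
    rintro ⟨P, d, hd, hd'⟩ ⟨Q, e, he, he'⟩ h
    obtain rfl : d = e := congrArg Subtype.val h
    have hPQ : P = Q := by
      by_contra hne
      exact hd' (center_of_three_points H hc ht P.2 Q.2 (fun e => hne (Subtype.ext e))
        (Subgroup.mem_inf.1 hd).1 (Subgroup.mem_inf.1 hd).2 (Subgroup.mem_inf.1 he).2)
    subst hPQ
    rfl
  have hcardF := Nat.card_le_card_of_injective F hF
  haveI := Fintype.ofFinite Pt
  rw [Nat.card_sigma, Finset.sum_congr rfl (fun P _ => hD P), Finset.sum_const, Finset.card_univ,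
    smul_eq_mul, ← Nat.card_eq_fintype_card, card_sub_of_le (A_le_N t), card_N,
    ← Nat.sub_one_mul] at hcardF
  have hzpos : 0 < z := Nat.card_pos
  have hm := two_le_idx H ht
  have hk : Nat.card Pt ≤ Nat.card Q' := by
    rw [hA, show Nat.card Pt * ((idx t - 1) * z) = (idx t - 1) * z * Nat.card Pt by ring,
      show (idx t - 1) * (Nat.card Q' * z) = (idx t - 1) * z * Nat.card Q' by ring] at hcardF
    exact Nat.le_of_mul_le_mul_left hcardF (Nat.mul_pos (by omega) hzpos)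
  obtain ⟨P₀⟩ : Nonempty Pt := by
    obtain ⟨v, hv, hvt⟩ := exists_not_mem H ht
    obtain ⟨g, hg⟩ := isConj_iff.1 (H.one t v ht hv)
    refine ⟨⟨QuotientGroup.mk g, fun h => hvt ?_⟩⟩
    rw [QuotientGroup.eq, mul_one, inv_mem_iff] at h
    exact hg ▸ conj_mem_of_mem_N h (self_mem t)
  have hle := Nat.card_le_card_of_injective (f P₀) (hf P₀)
  have heq : Nat.card Pt = Nat.card Q' := le_antisymm hk hle
  refine ⟨by rw [heq, hA], fun P Q hP hQ => ?_, fun n hn hnA => ?_⟩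
  · obtain ⟨q, hq⟩ := ((hf ⟨P, hP⟩).bijective_of_nat_card_le heq.le).2 ⟨Q, hQ⟩
    exact ⟨q.out, q.out.2, congrArg Subtype.val hq⟩
  · have hcards : Nat.card {n : G // n ∈ N t ∧ n ∉ A t} ≤ Nat.card (Σ P : Pt, D P) := by
      rw [Nat.card_sigma, Finset.sum_congr rfl (fun P _ => hD P), Finset.sum_const, Finset.card_univ,
        smul_eq_mul, ← Nat.card_eq_fintype_card, card_sub_of_le (A_le_N t), card_N,
        ← Nat.sub_one_mul, hA, heq]
      exact le_of_eq (by ring)
    obtain ⟨⟨P, d⟩, hp⟩ := (hF.bijective_of_nat_card_le hcards).2 ⟨n, hn, hnA⟩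
    obtain rfl : d.1 = n := congrArg Subtype.val hp
    exact ⟨P.1, P.2, (Subgroup.mem_inf.1 d.2.1).2⟩

include H hc in
theorem exists_fixed_invol {t n : G} (ht : orderOf t = 2) (hn : n ∈ N t) (hnA : n ∉ A t) :
    ∃ p, orderOf p = 2 ∧ p ∉ A t ∧ n ∈ N p := by
  obtain ⟨P, hP, hnP⟩ := (regular H hc ht).2.2 n hn hnA
  obtain ⟨g, rfl⟩ := QuotientGroup.mk_surjective P
  exact ⟨g * t * g⁻¹, conj_order g ht, conj_not_mem H ht hP, smul_mk_iff.1 hnP⟩

include H in
theorem card_invol_A {t : G} (ht : orderOf t = 2) :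
    Nat.card {w : G // orderOf w = 2 ∧ w ∈ A t} = idx t := by
  let f : ↥(N t) ⧸ (A t).subgroupOf (N t) → {w : G // orderOf w = 2 ∧ w ∈ A t} := fun q =>
    ⟨(q.out : G) * t * (q.out : G)⁻¹, conj_order _ ht, conj_mem_of_mem_N q.out.2 (self_mem t)⟩
  refine (Nat.card_eq_of_bijective f ⟨fun q q' h => ?_, fun w => ?_⟩).symm
  · have h' : (q.out : G) * t * (q.out : G)⁻¹ = (q'.out : G) * t * (q'.out : G)⁻¹ :=
      congrArg Subtype.val h
    rw [← q.out_eq', ← q'.out_eq', QuotientGroup.eq, Subgroup.mem_subgroupOf]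
    refine mem_A.2 ?_
    show (q.out : G)⁻¹ * (q'.out : G) * t = t * ((q.out : G)⁻¹ * (q'.out : G))
    calc (q.out : G)⁻¹ * (q'.out : G) * t
        = (q.out : G)⁻¹ * ((q'.out : G) * t * (q'.out : G)⁻¹) * (q'.out : G) := by group
      _ = (q.out : G)⁻¹ * ((q.out : G) * t * (q.out : G)⁻¹) * (q'.out : G) := by rw [h']
      _ = _ := by group
  · obtain ⟨g, hg⟩ := isConj_iff.1 (H.one t w.1 ht w.2.1)
    have hgN : g ∈ N t := (mem_N_iff H ht).2 (hg.symm ▸ w.2.2)
    refine ⟨QuotientGroup.mk ⟨g, hgN⟩, Subtype.ext ?_⟩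
    obtain ⟨a, ha⟩ := QuotientGroup.mk_out_eq_mul ((A t).subgroupOf (N t)) ⟨g, hgN⟩
    show ((QuotientGroup.mk ⟨g, hgN⟩ : ↥(N t) ⧸ (A t).subgroupOf (N t)).out : G) * t * _ = w.1
    have haA : ((a : ↥(N t)) : G) ∈ A t := a.2
    rw [ha, Subgroup.coe_mul, ← hg,
      show g * ((a : ↥(N t)) : G) * t * (g * ((a : ↥(N t)) : G))⁻¹ =
        g * (((a : ↥(N t)) : G) * t * ((a : ↥(N t)) : G)⁻¹) * g⁻¹ by group,
      (mem_A.1 haA).eq, mul_inv_cancel_right]

end Cfsg.Agent.H65.AbInv
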