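import Cfsg.Agent.H65.AbInv.Basic
import Cfsg.Agent.H39.StronglyEmbedded

/-!
# Abelian involution centralisers: two-point stabilisers

Every proper full subgroup is strongly embedded. If `t`, `u` are non-commuting involutions then
`A t ⊓ N u ≤ A u`.
-/

set_option autoImplicit false
set_option linter.unusedSectionVars false
set_option linter.style.haveILetI false

namespace Cfsg.Agent.H65.AbInv

universe u

variable {G : Type u} [Group G] [Finite G]

/-- Two involutions either commute with a common involution of the subgroup they generate or are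
swapped by an involution of that subgroup. -/
theorem common_or_swap {s v : G} (hs : orderOf s = 2) (hv : orderOf v = 2) :
    (∃ w : G, orderOf w = 2 ∧ w ∈ Subgroup.closure {s, v} ∧ Commute w s ∧ Commute w v) ∨
    (∃ k ∈ Subgroup.closure ({s, v} : Set G), k * s * k⁻¹ = v ∧
      (k * s) * (k * s) = 1) := by
  have hs2 := mul_self_eq_one hs
  have hv2 := mul_self_eq_one hv
  have hsv : s * v ∈ Subgroup.closure ({s, v} : Set G) :=
    mul_mem (Subgroup.subset_closure (Set.mem_insert _ _))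
      (Subgroup.subset_closure (Set.mem_insert_of_mem _ rfl))
  rcases Nat.even_or_odd (orderOf (s * v)) with he | ho
  · obtain ⟨h1, h2, h3⟩ := H26.central_involution hs2 hv2 he
    exact Or.inl ⟨_, h1, pow_mem hsv _, h2, h3⟩
  · obtain ⟨m, hm⟩ := H26.exists_conj_of_odd hs2 hv2 ho
    refine Or.inr ⟨(s * v) ^ m, zpow_mem hsv m, hm, ?_⟩
    rw [show (s * v) ^ m * s * ((s * v) ^ m * s) = (s * v) ^ m * (s * (s * v) ^ m * s) by group]
    calc (s * v) ^ m * (s * (s * v) ^ m * s) = (s * v) ^ m * ((s * v) ^ m)⁻¹ := ?_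
      _ = 1 := mul_inv_cancel _
    congr 1
    have hinv : s * (s * v) * s = (s * v)⁻¹ := by
      rw [← mul_assoc s s v, hs2, one_mul, mul_inv_rev, H65.inv_eq_self hs, H65.inv_eq_self hv]
    have : s * (s * v) ^ m * s = (s * (s * v) * s) ^ m := by
      have := map_zpow (MulAut.conj s).toMonoidHom (s * v) m
      simpa [H65.inv_eq_self hs] using this
    rw [this, hinv, inv_zpow]

variable (H : Hyp G)

include H in
/-- Non-commuting involutions are swapped by an involution. -/
theorem exists_swap {t v : G} (ht : orderOf t = 2) (hv : orderOf v = 2) (h : v ∉ A t) :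
    ∃ x : G, orderOf x = 2 ∧ x * t * x⁻¹ = v := by
  rcases common_or_swap ht hv with ⟨w, hw, -, hwt, hwv⟩ | ⟨k, -, hk, hk2⟩
  · exfalso
    apply h
    rw [← A_eq_of_mem H ht hw (mem_A.2 hwt)]
    exact mem_A.2 hwv.symm
  · refine ⟨k * t, H26.orderOf_two_of_mul_self hk2 fun e => h ?_, ?_⟩
    · rw [← hk, eq_inv_of_mul_eq_one_left e, H65.inv_eq_self ht, mul_self_eq_one ht, one_mul,
        H65.inv_eq_self ht]
      exact self_mem t
    · rw [← hk]; group

include H in
theorem swap_mem {t v x : G} (hv : orderOf v = 2) (hx : orderOf x = 2)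
    (hxt : x * t * x⁻¹ = v) : x * v * x⁻¹ = t := by
  rw [← hxt, show x * (x * t * x⁻¹) * x⁻¹ = (x * x) * t * (x * x)⁻¹ by group, mul_self_eq_one hx]
  group

include H in
/-- The involutions of a full subgroup form one conjugacy class of it. -/
theorem full_conj {L : Subgroup G} (hF : Full L) {s v : G} (hs : orderOf s = 2) (hsL : s ∈ L)
    (hv : orderOf v = 2) (hvL : v ∈ L) : ∃ l ∈ L, l * s * l⁻¹ = v := by
  have hle : Subgroup.closure ({s, v} : Set G) ≤ L :=
    (Subgroup.closure_le L).2 (Set.insert_subset hsL (Set.singleton_subset_iff.2 hvL))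
  rcases common_or_swap hs hv with ⟨w, hw, hwc, hws, hwv⟩ | ⟨k, hkc, hk, -⟩
  · obtain ⟨g, hg⟩ := isConj_iff.1 (H.one s v hs hv)
    refine ⟨g, hF s hsL hs (mem_N_of_eq ?_), hg⟩
    rw [hg, ← A_eq_of_mem H hs hw (mem_A.2 hws), A_eq_of_mem H hv hw (mem_A.2 hwv)]
  · exact ⟨k, hle hkc, hk⟩

include H in
theorem full_mem_of_conj {L : Subgroup G} (hF : Full L) {s g : G} (hs : orderOf s = 2)
    (hsL : s ∈ L) (hg : g * s * g⁻¹ ∈ L) : g ∈ L := by
  obtain ⟨l, hl, hls⟩ := full_conj H hF hs hsL (conj_order g hs) hg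
  have : l⁻¹ * g ∈ L := by
    refine hF.closed s hsL hs (mem_A.2 ?_)
    show l⁻¹ * g * s = s * (l⁻¹ * g)
    have h1 : g * s = (l * s * l⁻¹) * g := by rw [hls]; group
    rw [mul_assoc, h1]; group
  simpa using L.mul_mem hl this

include H in
/-- A proper full subgroup containing an involution is strongly embedded. -/
theorem full_se {L : Subgroup G} (hF : Full L) (hne : L ≠ ⊤) {s : G} (hs : orderOf s = 2)
    (hsL : s ∈ L) : Cfsg.IsStronglyEmbedded L := by
  refine ⟨hne, even_iff_two_dvd.2 (hs ▸ Subgroup.orderOf_dvd_natCard L hsL), fun g hg => ?_⟩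
  rw [← Nat.not_even_iff_odd]
  intro he
  haveI : Fact (Nat.Prime 2) := ⟨Nat.prime_two⟩
  obtain ⟨⟨w, hw1, hwm⟩, hw2⟩ := exists_prime_orderOf_dvd_card' 2 (even_iff_two_dvd.1 he)
  rw [← Subgroup.orderOf_coe] at hw2
  obtain ⟨y, hy, hyw⟩ := Subgroup.mem_map.1 hwm
  have hyw' : g * y * g⁻¹ = w := hyw
  refine hg (full_mem_of_conj H hF (s := y) ?_ hy (hyw'.symm ▸ hw1))
  rw [← H26.orderOf_conj_eq g, hyw', hw2]

include H in
/-- An involution-inverted element of odd order in a centraliser is trivial. -/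
theorem eq_one_of_inverted {x a v : G} (hx : orderOf x = 2) (ha : x * a * x⁻¹ = a⁻¹)
    (hv : orderOf v = 2) (hc : a ∈ A v) (hodd : Odd (orderOf a)) : a = 1 := by
  have h2 : orderOf a ∣ 2 := orderOf_dvd_of_pow_eq_one (by rw [pow_two]; exact not_inverted H hx ha hv hc)
  rcases (Nat.dvd_prime Nat.prime_two).1 h2 with h | h
  · exact orderOf_eq_one_iff.1 h
  · rw [h] at hodd; exact absurd hodd (by decide)

theorem orderOf_odd_of_mem {K : Subgroup G} (hK : Odd (Nat.card ↥K)) {e : G} (he : e ∈ K) :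
    Odd (orderOf e) :=
  hK.of_dvd_nat (Subgroup.orderOf_dvd_natCard K he)

include H in
/-- The inverted elements of a two-point stabiliser already move an involution to all of them. -/
theorem exists_inverted {L : Subgroup G} (hF : Full L) {x : G} (hx : orderOf x = 2) (hxL : x ∉ L)
    {t w : G} (ht : orderOf t = 2) (htL : t ∈ L) (hw : orderOf w = 2) (hwL : w ∈ L) :
    ∃ e : G, e ∈ L ∧ x * e * x⁻¹ ∈ L ∧ x * e * x⁻¹ = e⁻¹ ∧ e * t * e⁻¹ = w := by
  classical
  have hne : L ≠ ⊤ := fun h => hxL (h ▸ Subgroup.mem_top x)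
  have hSE := full_se H hF hne ht htL
  have hcard := H39.se_card_swap hSE (QuotientGroup.mk (1 : G)) (QuotientGroup.mk x)
  set X := {i : G // orderOf i = 2 ∧ i • (QuotientGroup.mk (1 : G) : G ⧸ L) = QuotientGroup.mk x}
  have hX : ∀ i : X, x * i.1 ∈ L := fun i => by
    have h := i.2.2
    rw [MulAction.Quotient.smul_mk, QuotientGroup.eq, smul_eq_mul, mul_one,
      H65.inv_eq_self i.2.1] at h
    simpa [H65.inv_eq_self i.2.1, H65.inv_eq_self hx] using L.inv_mem h
  have hodd := hSE.2.2 x hxL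
  have hinv : ∀ i : X, x * (x * i.1) * x⁻¹ = (x * i.1)⁻¹ := fun i => by
    rw [mul_inv_rev, H65.inv_eq_self i.2.1, ← mul_assoc x x, mul_self_eq_one hx, one_mul]
  have hmem : ∀ i : X, x * i.1 ∈ L ⊓ L.map (MulAut.conj x).toMonoidHom := fun i => by
    refine ⟨hX i, (x * i.1)⁻¹, L.inv_mem (hX i), ?_⟩
    show x * (x * i.1)⁻¹ * x⁻¹ = x * i.1
    rw [← conj_inv, hinv, inv_inv]
  let f : X → {t : G // orderOf t = 2 ∧ t ∈ L} := fun i =>
    ⟨x * i.1 * t * (x * i.1)⁻¹, conj_order _ ht, L.mul_mem (L.mul_mem (hX i) htL) (L.inv_mem (hX i))⟩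
  have hinj : Function.Injective f := by
    intro i j hij
    have hij' : x * i.1 * t * (x * i.1)⁻¹ = x * j.1 * t * (x * j.1)⁻¹ := congrArg Subtype.val hij
    have hk : i.1 * j.1 ∈ A t := by
      refine mem_A.2 ?_
      show i.1 * j.1 * t = t * (i.1 * j.1)
      have e1 : i.1 * j.1 = (x * i.1)⁻¹ * (x * j.1) := by
        rw [mul_inv_rev, H65.inv_eq_self i.2.1, mul_assoc, inv_mul_cancel_left]
      rw [e1]
      calc (x * i.1)⁻¹ * (x * j.1) * t
          = (x * i.1)⁻¹ * (x * j.1 * t * (x * j.1)⁻¹) * (x * j.1) := by group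
        _ = (x * i.1)⁻¹ * (x * i.1 * t * (x * i.1)⁻¹) * (x * j.1) := by rw [hij']
        _ = _ := by group
    have hinvk : i.1 * (i.1 * j.1) * i.1⁻¹ = (i.1 * j.1)⁻¹ := by
      rw [mul_inv_rev, H65.inv_eq_self i.2.1, H65.inv_eq_self j.2.1, ← mul_assoc i.1 i.1,
        mul_self_eq_one i.2.1, one_mul]
    have hk1 := eq_one_of_inverted H i.2.1 hinvk ht hk (orderOf_odd_of_mem hodd (by
      rw [show i.1 * j.1 = (x * i.1)⁻¹ * (x * j.1) by
        rw [mul_inv_rev, H65.inv_eq_self i.2.1, mul_assoc, inv_mul_cancel_left]]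
      exact Subgroup.mul_mem _ (Subgroup.inv_mem _ (hmem i)) (hmem j)))
    exact Subtype.ext ((eq_inv_of_mul_eq_one_left hk1).trans (H65.inv_eq_self j.2.1))
  obtain ⟨i, hi⟩ := (hinj.bijective_of_nat_card_le hcard.ge).2 ⟨w, hw, hwL⟩
  refine ⟨x * i.1, hX i, ?_, hinv i, congrArg Subtype.val hi⟩
  rw [hinv]; exact L.inv_mem (hX i)

include H in
/-- A swapping involution centralises the intersection of the two centralisers, and so does the
normaliser of the first. -/
theorem N_le_centralizer {t v k : G} (ht : orderOf t = 2) (hv : orderOf v = 2) (hvt : v ∉ A t)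
    (hk : k ∈ A t) (hk' : k ∈ A v) : N t ≤ Subgroup.centralizer ({k} : Set G) := by
  have key : ∀ y : G, orderOf y = 2 → A (y * t * y⁻¹) = A v → Commute y k := by
    intro y hy hyA
    have hyy : ∀ b : G, y * (y * b * y⁻¹) * y⁻¹ = b := fun b => by
      rw [show y * (y * b * y⁻¹) * y⁻¹ = (y * y) * b * (y * y)⁻¹ by group, mul_self_eq_one hy]; group
    have h1 : y * k * y⁻¹ ∈ A v := hyA ▸ conj_mem_A y hk
    have h2 : y * k * y⁻¹ ∈ A t := by
      rw [← hyA] at hk'
      rw [← hyy k] at hk'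
      exact (conj_mem_A_iff y).1 hk'
    have hc : Commute (y * k * y⁻¹) k := H.comm t ht _ h2 _ hk
    have hinv : y * (y * k * y⁻¹ * k⁻¹) * y⁻¹ = (y * k * y⁻¹ * k⁻¹)⁻¹ := by
      rw [show y * (y * k * y⁻¹ * k⁻¹) * y⁻¹ = (y * (y * k * y⁻¹) * y⁻¹) * (y * k * y⁻¹)⁻¹ by group,
        hyy]
      group
    have hmt : y * k * y⁻¹ * k⁻¹ ∈ A t := mul_mem h2 (inv_mem hk)
    have hsq := not_inverted H hy hinv ht hmt
    by_contra hne
    have h1' : y * k * y⁻¹ * k⁻¹ ≠ 1 := fun e => hne (mul_inv_eq_iff_eq_mul.1 (mul_inv_eq_one.1 e))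
    have ho := H26.orderOf_two_of_mul_self hsq h1'
    apply hvt
    rw [← A_eq_of_mem H ht ho hmt, A_eq_of_mem H hv ho (mul_mem h1 (inv_mem hk'))]
    exact self_mem v
  intro n hn
  obtain ⟨x, hx, hxt⟩ := exists_swap H ht hv hvt
  have hxN : x ∉ N t := fun h => hvt (by
    rw [← hxt]; exact conj_mem_of_mem_N h (self_mem t))
  obtain ⟨e, he, -, hinv, het⟩ := exists_inverted H (full_N H ht) hx hxN ht
    (A_le_N t (self_mem t)) (conj_order n ht)
    ((N t).mul_mem ((N t).mul_mem hn (A_le_N t (self_mem t))) ((N t).inv_mem hn))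
  have hxk : Commute x k := key x hx (by rw [hxt])
  have hxe2 : orderOf (x * e) = 2 := H26.orderOf_two_of_mul_self (by
    have : x * e * x = e⁻¹ := by rwa [H65.inv_eq_self hx] at hinv
    rw [← mul_assoc, this, inv_mul_cancel]) fun h => hxN (by
      rw [eq_inv_of_mul_eq_one_left h]; exact (N t).inv_mem he)
  have hek : Commute e k := by
    have h2 : Commute (x * e) k := key (x * e) hxe2 (by
      have hA : A (e * t * e⁻¹) = A t := eq_of_mem_N he
      have : A (x * (e * t * e⁻¹) * x⁻¹) = A (x * t * x⁻¹) := by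
        ext y
        rw [show y = x * (x⁻¹ * y * x) * x⁻¹ by group, conj_mem_A_iff, conj_mem_A_iff, hA]
      rw [show x * e * t * (x * e)⁻¹ = x * (e * t * e⁻¹) * x⁻¹ by group, this, hxt])
    have h3 := hxk.inv_left.mul_left h2
    rwa [inv_mul_cancel_left] at h3
  have hen : e⁻¹ * n ∈ A t := mem_A.2 (by
    show e⁻¹ * n * t = t * (e⁻¹ * n)
    calc e⁻¹ * n * t = e⁻¹ * (n * t * n⁻¹) * n := by group
      _ = e⁻¹ * (e * t * e⁻¹) * n := by rw [het]
      _ = _ := by group)
  have h4 : Commute (e⁻¹ * n) k := H.comm t ht _ hen _ hk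
  exact mem_A.2 (by simpa using hek.mul_left h4)

include H in
theorem full_centralizer {t v k : G} (ht : orderOf t = 2) (hv : orderOf v = 2) (hvt : v ∉ A t)
    (hk : k ∈ A t) (hk' : k ∈ A v) : Full (Subgroup.centralizer ({k} : Set G)) := by
  intro w hw hw2
  have hkw : k ∈ A w := mem_A.2 (mem_A.1 hw).symm
  by_cases hwt : t ∈ A w
  · have hwv : v ∉ A w := fun h => hvt (by rw [A_eq_of_mem H hw2 ht hwt]; exact h)
    exact N_le_centralizer H hw2 hv hwv hkw hk'
  · exact N_le_centralizer H hw2 ht hwt hkw hk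

include H in
theorem centralizer_eq_top_imp {k v : G} (h : Subgroup.centralizer ({k} : Set G) = ⊤) :
    k ∈ A v :=
  mem_A.2 (mem_A.1 (show v ∈ Subgroup.centralizer ({k} : Set G) by
    rw [h]; exact Subgroup.mem_top v)).symm

include H in
/-- First half of `A t ⊓ N v ≤ A v`. -/
theorem invol_mem_of_commute {t v a z : G} (ht : orderOf t = 2) (hv : orderOf v = 2)
    (hat : a ∈ A t) (han : a ∈ N v) (hav : a ∉ A v) (hz : orderOf z = 2) (haz : a ∈ A z) :
    z ∈ A t := by
  by_contra hzt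
  have hvt : v ∉ A t := fun h => hav (by rw [A_eq_of_mem H ht hv h]; exact hat)
  set L := Subgroup.centralizer ({a} : Set G) with hLdef
  have hF : Full L := full_centralizer H ht hz hzt hat haz
  have hne : L ≠ ⊤ := fun h => hav (centralizer_eq_top_imp H h)
  have htL : t ∈ L := mem_A.2 (mem_A.1 hat).symm
  have hzL : z ∈ L := mem_A.2 (mem_A.1 haz).symm
  obtain ⟨x, hx, hxt⟩ := exists_swap H ht hv hvt
  have hxv := swap_mem H hv hx hxt
  have hxL : x ∉ L := fun h => hav (mem_A.2 (mem_A.1 (show v ∈ L by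
    rw [← hxt]; exact L.mul_mem (L.mul_mem h htL) (L.inv_mem h))).symm)
  set b := x * a * x⁻¹ with hbdef
  have hbv : b ∈ A v := by rw [← hxt]; exact conj_mem_A x hat
  have hbt : b ∈ N t := by rw [← hxv]; exact conj_mem_N a han
  have hbL : b ∈ L := hF t htL ht hbt
  -- `b` normalises the centralisers of all involutions of `L`
  have hall : ∀ w, orderOf w = 2 → w ∈ L → b ∈ N w := by
    intro w hw hwL
    obtain ⟨e, he, hxe, -, het⟩ := exists_inverted H hF hx hxL ht htL hw hwL
    have heb : Commute e b := by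
      have hm : Commute (x * e * x⁻¹) a := mem_A.1 hxe
      have := hm.map (MulAut.conj x).toMonoidHom
      simp only [MulEquiv.toMonoidHom_eq_coe, MonoidHom.coe_coe, MulAut.conj_apply] at this
      rwa [show x * (x * e * x⁻¹) * x⁻¹ = (x * x) * e * (x * x)⁻¹ by group, mul_self_eq_one hx,
        one_mul, inv_one, mul_one] at this
    rw [← het, show b = e * b * e⁻¹ by rw [heb.eq, mul_inv_cancel_right]]
    exact conj_mem_N b hbt
  have hb2 : t * b⁻¹ * t⁻¹ ∈ N z := by
    have h1 := hall (t * z * t⁻¹) (conj_order t hz) (L.mul_mem (L.mul_mem htL hzL) (L.inv_mem htL))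
    have h2 := conj_mem_N (g := t) _ ((N (t * z * t⁻¹)).inv_mem h1)
    rwa [show t * (t * z * t⁻¹) * t⁻¹ = (t * t) * z * (t * t)⁻¹ by group, mul_self_eq_one ht,
      one_mul, inv_one, mul_one] at h2
  have hcA : b * t * b⁻¹ * t⁻¹ ∈ A t :=
    mul_mem (conj_mem_of_mem_N hbt (self_mem t)) (inv_mem (self_mem t))
  have hc2 : (b * t * b⁻¹ * t⁻¹) * (b * t * b⁻¹ * t⁻¹) = 1 := by
    have h1 : Commute (b * t * b⁻¹) t := mem_A.1 (conj_mem_of_mem_N hbt (self_mem t))
    rw [h1.inv_right.symm.mul_mul_mul_comm, mul_self_eq_one (conj_order b ht), one_mul,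
      H65.inv_eq_self ht, mul_self_eq_one ht]
  by_cases hc1 : b * t * b⁻¹ * t⁻¹ = 1
  · have hbA : b ∈ A t := mem_A.2 (mul_inv_eq_iff_eq_mul.1 (mul_inv_eq_one.1 hc1))
    apply hav
    have h := conj_mem_A x hbA
    rwa [hxt, hbdef, show x * (x * a * x⁻¹) * x⁻¹ = (x * x) * a * (x * x)⁻¹ by group,
      mul_self_eq_one hx, one_mul, inv_one, mul_one] at h
  · have ho := H26.orderOf_two_of_mul_self hc2 hc1
    have hcz : b * t * b⁻¹ * t⁻¹ ∈ N z := by
      rw [show b * t * b⁻¹ * t⁻¹ = b * (t * b⁻¹ * t⁻¹) by group]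
      exact (N z).mul_mem (hall z hz hzL) hb2
    have hcz' := A_eq_of_mem H hz ho (invol_mem_A H hz ho hcz)
    exact hzt (by rw [← A_eq_of_mem H ht ho hcA, hcz']; exact self_mem z)

include H in
/-- The key fact: `A t ⊓ N v ≤ A v` for all involutions `t`, `v`. -/
theorem A_inf_N_le {t v a : G} (ht : orderOf t = 2) (hv : orderOf v = 2) (hat : a ∈ A t)
    (han : a ∈ N v) : a ∈ A v := by
  by_contra hav
  have hvt : v ∉ A t := fun h => hav (by rw [A_eq_of_mem H ht hv h]; exact hat)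
  obtain ⟨x, hx, hxt⟩ := exists_swap H ht hv hvt
  have hxv := swap_mem H hv hx hxt
  have hxx : ∀ y : G, x * (x * y * x⁻¹) * x⁻¹ = y := fun y => by
    rw [show x * (x * y * x⁻¹) * x⁻¹ = (x * x) * y * (x * x)⁻¹ by group, mul_self_eq_one hx]; group
  set b := x * a * x⁻¹ with hbdef
  have hxb : x * b * x⁻¹ = a := hxx a
  have hbv : b ∈ A v := by rw [← hxt]; exact conj_mem_A x hat
  have hbt : b ∈ N t := by rw [← hxv]; exact conj_mem_N a han
  have hbA : b ∉ A t := fun h => hav (by rw [← hxb, ← hxt]; exact conj_mem_A x h)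
  have hxN : x ∉ N t := fun h => hvt (by
    rw [← hxt]; exact conj_mem_of_mem_N h (self_mem t))
  -- `a` and `b` commute
  have hab : Commute a b := by
    set c := a * b * a⁻¹ * b⁻¹ with hc
    have hcv : c ∈ A v := mul_mem (conj_mem_of_mem_N han hbv) (inv_mem hbv)
    have hct : c ∈ A t := by
      rw [show c = a * (b * a⁻¹ * b⁻¹) by rw [hc]; group]
      exact mul_mem hat (conj_mem_of_mem_N hbt (inv_mem hat))
    have hinv : x * c * x⁻¹ = c⁻¹ := by
      rw [show x * c * x⁻¹ = (x * a * x⁻¹) * (x * b * x⁻¹) * (x * a * x⁻¹)⁻¹ * (x * b * x⁻¹)⁻¹ by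
        rw [hc]; group, hxb, ← hbdef, hc]
      group
    have hsq := not_inverted H hx hinv ht hct
    by_contra hne
    have h1 : c ≠ 1 := fun e => hne (mul_inv_eq_iff_eq_mul.1 (mul_inv_eq_one.1 (hc ▸ e)))
    have ho := H26.orderOf_two_of_mul_self hsq h1
    exact hvt (by rw [← A_eq_of_mem H ht ho hct, A_eq_of_mem H hv ho hcv]; exact self_mem v)
  set d := a⁻¹ * b with hddef
  have hdN : d ∈ N t := (N t).mul_mem ((N t).inv_mem (A_le_N t hat)) hbt
  have hdinv : x * d * x⁻¹ = d⁻¹ := by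
    rw [show x * d * x⁻¹ = (x * a * x⁻¹)⁻¹ * (x * b * x⁻¹) by rw [hddef]; group, hxb, ← hbdef, hddef]
    group
  have hdx : x * d * x = d⁻¹ := by rwa [H65.inv_eq_self hx] at hdinv
  have hy : orderOf (x * d) = 2 := H26.orderOf_two_of_mul_self (by
    rw [← mul_assoc, hdx, inv_mul_cancel]) fun h => hxN (by
      rw [eq_inv_of_mul_eq_one_left h]; exact (N t).inv_mem hdN)
  have hd1 : d ≠ 1 := fun h => hbA (by
    rw [hddef, inv_mul_eq_one] at h
    rwa [← h])
  have hnc : ¬ Commute (x * d) x := by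
    intro h
    have h1 : Commute d x := by
      have := (Commute.refl x).inv_left.mul_left h
      rwa [inv_mul_cancel_left] at this
    have hd2 : d * d = 1 := by
      rw [h1.symm.eq, mul_inv_cancel_right] at hdinv
      exact eq_inv_iff_mul_eq_one.1 hdinv
    have hdt := invol_mem_A H ht (H26.orderOf_two_of_mul_self hd2 hd1) hdN
    exact hbA (by simpa [hddef] using (A t).mul_mem hat hdt)
  -- `a * b` centralises `x` and `x * d`
  have hcx : Commute (a * b) x := by
    have : x * (a * b) * x⁻¹ = a * b := by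
      rw [show x * (a * b) * x⁻¹ = (x * a * x⁻¹) * (x * b * x⁻¹) by group, hxb, ← hbdef, hab.eq]
    exact (show Commute x (a * b) from mul_inv_eq_iff_eq_mul.1 this).symm
  have hcd : Commute (a * b) (x * d) := by
    refine hcx.mul_right ?_
    exact ((Commute.refl a).inv_right.mul_left hab.symm.inv_right).mul_right
      (hab.mul_left (Commute.refl b))
  have hcN : a * b ∈ N t := (N t).mul_mem (A_le_N t hat) hbt
  have hcA : a * b ∉ A t := fun h => hbA (by simpa using mul_mem (inv_mem hat) h)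
  exact hnc (mem_A.1 (invol_mem_of_commute H hx ht (mem_A.2 hcx) hcN hcA hy (mem_A.2 hcd)))

end Cfsg.Agent.H65.AbInv
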