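import Cfsg.Agent.H65.AbInv.Central
import Cfsg.Agent.H65.SelfNorm.Centralizer
import Cfsg.Agent.Linear.TwoTorus
import Cfsg.Agent.Linear.Generation

/-!
# Abelian involution centralisers: the direct product decomposition
-/

set_option autoImplicit false
set_option linter.unusedSectionVars false
set_option linter.style.haveILetI false

namespace Cfsg.Agent.H65.AbInv

open Matrix

universe u

/-- In characteristic two `SL(2, F)` maps isomorphically onto `PGL(2, F)`. -/
noncomputable def slEquivPGL (F : Type) [Field F] [Fintype F] [CharP F 2] :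
    Matrix.SpecialLinearGroup (Fin 2) F ≃* Matrix.ProjGenLinGroup (Fin 2) F :=
  haveI : Finite (Matrix.ProjGenLinGroup (Fin 2) F) :=
    Finite.of_surjective _ (Matrix.ProjGenLinGroup.mk_surjective)
  MulEquiv.ofBijective
    ((Matrix.ProjectiveSpecialLinearGroup.toPGL (n := Fin 2) (R := F)).comp
      (QuotientGroup.mk' (Subgroup.center (Matrix.SpecialLinearGroup (Fin 2) F))))
    ((Matrix.ProjectiveSpecialLinearGroup.toPGL_injective.comp
      (show Function.Injective (QuotientGroup.mk'
        (Subgroup.center (Matrix.SpecialLinearGroup (Fin 2) F))) by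
      rw [← MonoidHom.ker_eq_bot_iff, QuotientGroup.ker_mk', eq_bot_iff]
      intro a ha
      rcases Linear.mem_center_SL_two.mp ha with rfl | rfl
      · exact one_mem _
      · rw [Subgroup.mem_bot]
        refine Subtype.ext ?_
        ext i j
        fin_cases i <;> fin_cases j <;> simp [CharTwo.neg_eq])).bijective_of_nat_card_le
      (Linear.card_PGL_eq).le)

variable {G : Type u} [Group G] [Finite G]

/-- The main case: the group is `SL(2, 2^f)` times the centre. -/
theorem exists_prod (H : Hyp G) {t : G} (ht : orderOf t = 2) :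
    ∃ (F : Type) (_ : Field F) (_ : Fintype F), CharP F 2 ∧
      Nonempty (G ≃* Matrix.SpecialLinearGroup (Fin 2) F × ↥(Subgroup.center G)) := by
  classical
  have hc := central H
  obtain ⟨F, hF, hF', f, hf, hcard, ⟨e⟩⟩ := exists_equiv H hc ht
  haveI : Fact (Nat.Prime 2) := ⟨Nat.prime_two⟩
  haveI : CharP F 2 := charP_of_card_eq_prime_pow (f := f) (by exact hcard)
  refine ⟨F, hF, hF', inferInstance, ?_⟩
  set S := Matrix.SpecialLinearGroup (Fin 2) F
  let χ : G →* S := ((e.trans (slEquivPGL F).symm).toMonoidHom).comp (QuotientGroup.mk' _)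
  have hχs : Function.Surjective χ :=
    (e.trans (slEquivPGL F).symm).surjective.comp (QuotientGroup.mk'_surjective _)
  have hχk : χ.ker = Subgroup.center G := by
    ext g
    rw [MonoidHom.mem_ker, MonoidHom.comp_apply, MulEquiv.coe_toMonoidHom, map_eq_one_iff _
      (MulEquiv.injective _), QuotientGroup.mk'_apply, QuotientGroup.eq_one_iff]
  have hperf : commutator S = ⊤ := Linear.commutator_SL_eq_top_of_card (Or.inr (by
    rw [Nat.card_eq_fintype_card, hcard]
    calc 4 = 2 ^ 2 := by norm_num
      _ ≤ 2 ^ f := Nat.pow_le_pow_right (by norm_num) hf))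
  have hmap : (commutator G).map χ = ⊤ := by
    rw [_root_.commutator_def, Subgroup.map_commutator, Subgroup.map_top_of_surjective _ hχs,
      ← _root_.commutator_def, hperf]
  -- the derived group meets the centre trivially
  have hKZ : ∀ x ∈ commutator G, x ∈ Subgroup.center G → x = 1 := by
    intro x hxK hxZ
    by_contra hx1
    obtain ⟨r, hr, hrd⟩ := Nat.exists_prime_and_dvd (fun h1 => hx1 (orderOf_eq_one_iff.mp h1))
    haveI := Fact.mk hr
    set y := x ^ (orderOf x / r) with hy
    have hord : orderOf y = r := orderOf_pow_orderOf_div (orderOf_pos x).ne' hrd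
    have hyZ : y ∈ Subgroup.center G := pow_mem hxZ _
    have hr2 : r ≠ 2 := fun h => not_center H (hord.trans h) hyZ
    obtain ⟨P⟩ : Nonempty (Sylow r G) := inferInstance
    haveI hcyc : IsCyclic ↥((P : Subgroup G).map χ) :=
      Linear.isCyclic_of_isPGroup 2 hr2 hr2 (P.2.map χ)
    refine SelfNorm.not_mem_commutator P ⟨⟨fun a b => ?_⟩⟩ hord
      (fun h => Subgroup.mem_center_iff.1 hyZ h) (pow_mem hxK _)
    refine (MonoidHom.isMulCommutative_of_isCyclic_of_ker_le_center
      (χ.subgroupMap (P : Subgroup G)) ?_).is_comm.comm a b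
    intro d hd
    have hd' : (d : G) ∈ Subgroup.center G := by
      rw [← hχk, MonoidHom.mem_ker]
      exact congrArg Subtype.val hd
    exact Subgroup.mem_center_iff.2 fun g => Subtype.ext (Subgroup.mem_center_iff.1 hd' g)
  let θ : ↥(commutator G) →* S := χ.comp (commutator G).subtype
  have hθ : Function.Bijective θ := by
    refine ⟨?_, fun s => ?_⟩
    · rw [← MonoidHom.ker_eq_bot_iff, eq_bot_iff]
      intro k hk
      have hk' : χ (k : G) = 1 := hk
      exact Subgroup.mem_bot.2 (Subtype.ext (hKZ k k.2 (by rwa [← hχk, MonoidHom.mem_ker])))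
    · obtain ⟨k, hk, rfl⟩ : s ∈ (commutator G).map χ := hmap.symm ▸ Subgroup.mem_top s
      exact ⟨⟨k, hk⟩, rfl⟩
  let μ : ↥(commutator G) × ↥(Subgroup.center G) →* G :=
    MonoidHom.mk' (fun p => (p.1 : G) * p.2) fun p q => by
      show ((p.1 : G) * q.1) * ((p.2 : G) * q.2) = (p.1 * p.2) * (q.1 * q.2)
      rw [mul_assoc, ← mul_assoc (q.1 : G), Subgroup.mem_center_iff.1 p.2.2 q.1]
      group
  have hμ : Function.Bijective μ := by
    refine ⟨?_, fun g => ?_⟩
    · rw [← MonoidHom.ker_eq_bot_iff, eq_bot_iff]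
      rintro ⟨k, z⟩ hkz
      have h1 : (k : G) * (z : G) = 1 := hkz
      have hk1 : (k : G) = 1 := hKZ k k.2 (by
        rw [eq_inv_of_mul_eq_one_left h1]; exact inv_mem z.2)
      rw [hk1, one_mul] at h1
      exact Subgroup.mem_bot.2 (Prod.ext (Subtype.ext hk1) (Subtype.ext h1))
    · obtain ⟨k, hk, hkg⟩ : χ g ∈ (commutator G).map χ := hmap.symm ▸ Subgroup.mem_top _
      refine ⟨(⟨k, hk⟩, ⟨k⁻¹ * g, ?_⟩), mul_inv_cancel_left k g⟩
      rw [← hχk, MonoidHom.mem_ker, map_mul, map_inv, hkg, inv_mul_cancel]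
  exact ⟨(MulEquiv.ofBijective μ hμ).symm.trans
    ((MulEquiv.ofBijective θ hθ).prodCongr (MulEquiv.refl _))⟩

end Cfsg.Agent.H65.AbInv
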