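import Cfsg.Agent.H65.AbInv.Frob
import Cfsg.Agent.H28.ZassApps
import Cfsg.Agent.S0727
import Cfsg.Agent.Linear.Order
import Mathlib.GroupTheory.FixedPointFree

/-!
# Abelian involution centralisers with central intersections: modulo the centre

Modulo the centre the group is a Zassenhaus group with abelian kernel, hence `PGL(2, 2^f)`.
-/

set_option autoImplicit false
set_option linter.unusedSectionVars false
set_option linter.style.haveILetI false

namespace Cfsg.Agent.H65.AbInv

open MulAction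

universe u

variable {G : Type u} [Group G] [Finite G]

/-- The permutation representation on the conjugates of `A t`, onto its image. -/
abbrev rho (t : G) : G →* ↥(MulAction.toPermHom G (G ⧸ N t)).range :=
  (MulAction.toPermHom G (G ⧸ N t)).rangeRestrict

omit [Finite G] in
theorem rho_smul (t g : G) (P : G ⧸ N t) : rho t g • P = g • P := rfl

variable (H : Hyp G) (hc : Central G)

include H hc in
theorem exists_two_points {t : G} (ht : orderOf t = 2) :
    ∃ P Q : G ⧸ N t, P ≠ QuotientGroup.mk 1 ∧ Q ≠ QuotientGroup.mk 1 ∧ P ≠ Q := by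
  by_contra hcon
  push Not at hcon
  haveI : Subsingleton {P : G ⧸ N t // P ≠ QuotientGroup.mk 1} :=
    ⟨fun P Q => Subtype.ext (hcon P.1 Q.1 P.2 Q.2)⟩
  have h1 : Nat.card {P : G ⧸ N t // P ≠ QuotientGroup.mk 1} ≤ 1 :=
    Finite.card_le_one_iff_subsingleton.2 inferInstance
  have h2 := (regular H hc ht).1
  have hle : Nat.card ↥(A t) ≤ Nat.card ↥(Subgroup.center G) := by
    rw [← h2]; exact le_trans (Nat.mul_le_mul_right _ h1) (one_mul _).le
  exact not_center H ht ((Subgroup.eq_of_le_of_card_ge (center_le t) hle).symm ▸ self_mem t)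

include H hc in
theorem ker_rho {t : G} (ht : orderOf t = 2) : (rho t).ker = Subgroup.center G := by
  ext g
  rw [MonoidHom.ker_rangeRestrict, MonoidHom.mem_ker]
  constructor
  · intro h
    obtain ⟨P, Q, hP, hQ, hPQ⟩ := exists_two_points H hc ht
    have hfix : ∀ R : G ⧸ N t, g • R = R := fun R =>
      (congrArg (fun σ : Equiv.Perm (G ⧸ N t) => σ R) h)
    exact center_of_three_points H hc ht hP hQ hPQ (hfix _) (hfix _) (hfix _)
  · exact fun h => Equiv.ext fun R => center_fix h R

include H hc in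
theorem card_map_rho {t : G} (ht : orderOf t = 2) {K : Subgroup G} (hK : Subgroup.center G ≤ K) :
    Nat.card ↥(K.map (rho t)) * Nat.card ↥(Subgroup.center G) = Nat.card ↥K := by
  have hker : ((rho t).comp K.subtype).ker = (Subgroup.center G).subgroupOf K := by
    rw [← MonoidHom.comap_ker, ker_rho H hc ht]; rfl
  have hrange : ((rho t).comp K.subtype).range = K.map (rho t) := by
    rw [MonoidHom.range_comp, Subgroup.range_subtype]
  rw [Subgroup.card_eq_card_quotient_mul_card_subgroup ((rho t).comp K.subtype).ker, ← hrange,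
    Nat.card_congr (QuotientGroup.quotientKerEquivRange ((rho t).comp K.subtype)).toEquiv, hker,
    Nat.card_congr (Subgroup.subgroupOfEquivOfLe hK).toEquiv]

include H hc in
theorem card_points {t : G} (ht : orderOf t = 2) :
    Nat.card (G ⧸ N t) = Nat.card ↥((A t).map (rho t)) + 1 := by
  classical
  haveI := Fintype.ofFinite (G ⧸ N t)
  have h1 : Nat.card {P : G ⧸ N t // P ≠ QuotientGroup.mk 1} = Nat.card ↥((A t).map (rho t)) :=
    Nat.eq_of_mul_eq_mul_right Nat.card_pos
      ((regular H hc ht).1.trans (card_map_rho H hc ht (center_le t)).symm)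
  have h2 : 0 < Fintype.card (G ⧸ N t) := Fintype.card_pos
  rw [← h1, Nat.card_eq_fintype_card, Nat.card_eq_fintype_card, Fintype.card_subtype_compl,
    Fintype.card_subtype_eq]
  omega

include H hc in
theorem card_two_rho {t : G} (ht : orderOf t = 2) {P : G ⧸ N t} (hP : P ≠ QuotientGroup.mk 1) :
    Nat.card ↥(stabilizer ↥(MulAction.toPermHom G (G ⧸ N t)).range
        (QuotientGroup.mk (1 : G) : G ⧸ N t) ⊓
      stabilizer ↥(MulAction.toPermHom G (G ⧸ N t)).range P) = idx t := by
  have hEq : stabilizer ↥(MulAction.toPermHom G (G ⧸ N t)).range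
        (QuotientGroup.mk (1 : G) : G ⧸ N t) ⊓
      stabilizer ↥(MulAction.toPermHom G (G ⧸ N t)).range P = (two P).map (rho t) := by
    ext r
    obtain ⟨g, rfl⟩ := (MulAction.toPermHom G (G ⧸ N t)).rangeRestrict_surjective r
    rw [Subgroup.mem_inf, mem_stabilizer_iff, mem_stabilizer_iff, rho_smul, rho_smul]
    constructor
    · exact fun h => Subgroup.mem_map_of_mem _ ⟨h.1, h.2⟩
    · rintro ⟨d, hd, hdg⟩
      rw [← rho_smul t g, ← rho_smul t g, ← hdg]
      exact hd
  refine Nat.eq_of_mul_eq_mul_right (Nat.card_pos (α := ↥(Subgroup.center G))) ?_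
  rw [hEq, card_map_rho H hc ht (center_le_two P), card_two H hc ht hP]

include H hc in
/-- The image of `G` is a Zassenhaus group with the image of `A t` as kernel. -/
theorem zassenhaus {t : G} (ht : orderOf t = 2) :
    Cfsg.IsZassenhausGroup ↥(MulAction.toPermHom G (G ⧸ N t)).range (G ⧸ N t) ∧
      H28.Zass.IsKer (QuotientGroup.mk (1 : G) : G ⧸ N t) ((A t).map (rho t)) := by
  classical
  set base : G ⧸ N t := QuotientGroup.mk 1 with hbase
  obtain ⟨P₀, -, hP₀, -, -⟩ := exists_two_points H hc ht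
  have htr := (regular H hc ht).2.1
  have hfix : ∀ a ∈ A t, ∀ P : G ⧸ N t, P ≠ base → a • P = P → rho t a = 1 := fun a ha P hP h => by
    rw [← MonoidHom.mem_ker, ker_rho H hc ht]; exact center_of_fix H hc ht ha hP h
  have hsurj : ∀ r : ↥(MulAction.toPermHom G (G ⧸ N t)).range, ∃ g, rho t g = r :=
    (MulAction.toPermHom G (G ⧸ N t)).rangeRestrict_surjective
  have hker : H28.Zass.IsKer base ((A t).map (rho t)) := by
    refine ⟨?_, (card_points H hc ht).symm, ?_⟩
    · rintro _ ⟨a, ha, rfl⟩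
      exact smul_base_iff.2 (A_le_N t ha)
    · rintro _ ⟨a, ha, rfl⟩ h1 P hP
      by_contra hne
      exact h1 (hfix a ha P hne hP)
  have hpair : ∀ x y : G ⧸ N t, x ≠ y → ∃ g : G, g • x = base ∧ g • y = P₀ := by
    intro x y hxy
    obtain ⟨g, hg⟩ := MulAction.exists_smul_eq G x base
    obtain ⟨a, ha, hay⟩ := htr (g • y) P₀
      (fun e => hxy (smul_left_cancel g (hg.trans e.symm))) hP₀
    exact ⟨a * g, by rw [mul_smul, hg]; exact smul_base_iff.2 (A_le_N t ha), by rw [mul_smul, hay]⟩
  refine ⟨⟨⟨fun {r r'} h => Subtype.ext (Equiv.ext h)⟩, ?_, ?_, ?_, ?_⟩, hker⟩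
  · rw [MulAction.is_two_pretransitive_iff]
    intro x y x' y' hxy hxy'
    obtain ⟨g, hg1, hg2⟩ := hpair x y hxy
    obtain ⟨g', hg1', hg2'⟩ := hpair x' y' hxy'
    refine ⟨rho t (g'⁻¹ * g), ?_, ?_⟩
    · rw [rho_smul, mul_smul, hg1, ← hg1', inv_smul_smul]
    · rw [rho_smul, mul_smul, hg2, ← hg2', inv_smul_smul]
  · intro r x y z hxy hyz hxz hrx hry hrz
    obtain ⟨g, rfl⟩ := hsurj r
    rw [rho_smul] at hrx hry hrz
    obtain ⟨f, hfx, hfy⟩ := hpair x y hxy
    have hcj : ∀ w : G ⧸ N t, g • w = w → (f * g * f⁻¹) • f • w = f • w := fun w hw => by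
      rw [← mul_smul, inv_mul_cancel_right, mul_smul, hw]
    have hfz : f • z ≠ base := fun e => hxz (smul_left_cancel f (hfx.trans e.symm))
    have hfz' : P₀ ≠ f • z := fun e => hyz (smul_left_cancel f (hfy.trans e))
    have h1 : f * g * f⁻¹ ∈ Subgroup.center G :=
      center_of_three_points H hc ht hP₀ hfz hfz' (by have := hcj x hrx; rwa [hfx] at this)
        (by have := hcj y hry; rwa [hfy] at this) (hcj z hrz)
    rw [← MonoidHom.mem_ker, ker_rho H hc ht]
    have h2 := conj_center h1 f⁻¹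
    rw [show f⁻¹ * (f * g * f⁻¹) * f⁻¹⁻¹ = g by group] at h2
    rwa [h2]
  · have hcard := card_two_rho H hc ht hP₀
    obtain ⟨r, hr, hr1⟩ : ∃ r ∈ stabilizer ↥(MulAction.toPermHom G (G ⧸ N t)).range base ⊓
        stabilizer ↥(MulAction.toPermHom G (G ⧸ N t)).range P₀, r ≠ 1 := by
      by_contra hcon
      push Not at hcon
      rw [(Subgroup.eq_bot_iff_forall _).2 hcon, Subgroup.card_bot] at hcard
      have := two_le_idx H ht
      omega
    exact ⟨r, hr1, base, P₀, hP₀.symm, (Subgroup.mem_inf.1 hr).1, (Subgroup.mem_inf.1 hr).2⟩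
  · intro M hM hMt
    refine ⟨base, fun hst => ?_⟩
    haveI := hM
    -- an involution of `A t` inverts a regular normal subgroup
    have hinv : ∀ s : G, orderOf s = 2 → s ∈ A t → ∀ m : ↥M,
        rho t s * (m : ↥(MulAction.toPermHom G (G ⧸ N t)).range) * (rho t s)⁻¹ = (↑(m⁻¹) : _) := by
      intro s hs hsA
      set σ := rho t s with hσdef
      have hσσ : σ * σ = 1 := by rw [hσdef, ← map_mul, mul_self_eq_one hs, map_one]
      let φ : ↥M →* ↥M :=
        { toFun := fun m => ⟨σ * m * σ⁻¹, hM.conj_mem _ m.2 σ⟩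
          map_one' := Subtype.ext (by simp)
          map_mul' := fun a b => Subtype.ext (by simp [mul_assoc]) }
      have hfp : MonoidHom.FixedPointFree φ := by
        intro m hm
        have h1 : σ * (m : ↥(MulAction.toPermHom G (G ⧸ N t)).range) * σ⁻¹ = m :=
          congrArg Subtype.val hm
        have hsbase : σ • base = base := smul_base_iff.2 (A_le_N t hsA)
        have h2 : s • (m • base) = m • base := by
          rw [Subgroup.smul_def, ← rho_smul t s, ← hσdef, ← mul_smul,
            mul_inv_eq_iff_eq_mul.1 h1, mul_smul, hsbase]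
        have h3 : m • base = base := by
          by_contra hne
          exact not_center H hs (center_of_fix H hc ht hsA hne h2)
        exact Subgroup.mem_bot.1 (hst ▸ (mem_stabilizer_iff.2 h3))
      have h4 := hfp.coe_eq_inv_of_involutive (φ := φ) fun m => Subtype.ext (by
        show σ * (σ * (m : _) * σ⁻¹) * σ⁻¹ = m
        rw [show σ * (σ * (m : _) * σ⁻¹) * σ⁻¹ = (σ * σ) * m * (σ * σ)⁻¹ by group, hσσ]
        group)
      exact fun m => congrArg Subtype.val (congrFun h4 m)
    obtain ⟨w, hw, hwt, hwc⟩ := H.rank t ht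
    have hwA : w ∈ A t := mem_A.2 hwc
    have hu : orderOf (t * w) = 2 := H65.orderOf_mul_two ht hw hwc.symm (fun e => hwt e.symm)
    have hcomm : ∀ m : ↥M, rho t (t * w) * (m : ↥(MulAction.toPermHom G (G ⧸ N t)).range) *
        (rho t (t * w))⁻¹ = (m : _) := fun m => by
      rw [map_mul, show rho t t * rho t w * (m : _) * (rho t t * rho t w)⁻¹ =
        rho t t * (rho t w * (m : _) * (rho t w)⁻¹) * (rho t t)⁻¹ by group, hinv w hw hwA,
        hinv t ht (self_mem t), inv_inv]
    obtain ⟨m, hm⟩ := hMt.exists_smul_eq base P₀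
    refine not_center H hu (center_of_fix H hc ht (mul_mem (self_mem t) hwA) hP₀ ?_)
    rw [← hm, Subgroup.smul_def, ← rho_smul t (t * w), ← mul_smul,
      mul_inv_eq_iff_eq_mul.1 (hcomm m), mul_smul, rho_smul,
      smul_base_iff.2 (A_le_N t (mul_mem (self_mem t) hwA))]

include H hc in
theorem idx_add_one {t : G} (ht : orderOf t = 2) :
    idx t + 1 = Nat.card ↥((A t).map (rho t)) := by
  obtain ⟨hZ, hker⟩ := zassenhaus H hc ht
  obtain ⟨P, -, hP, -, -⟩ := exists_two_points H hc ht
  have hcomm : ∀ a ∈ (A t).map (rho t), ∀ b ∈ (A t).map (rho t), a * b = b * a := by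
    rintro _ ⟨a, ha, rfl⟩ _ ⟨b, hb, rfl⟩
    rw [← map_mul, ← map_mul, (H.comm t ht a ha b hb).eq]
  rcases H28.Zass.kernel_cases hker hZ hP.symm hcomm with h | h
  · rwa [card_two_rho H hc ht hP] at h
  · have h2 : orderOf (rho t t) = 2 := H26.orderOf_two_of_mul_self
      (by rw [← map_mul, mul_self_eq_one ht, map_one])
      (fun e => not_center H ht (ker_rho H hc ht ▸ e))
    have h3 := h2 ▸ Subgroup.orderOf_dvd_natCard _ (Subgroup.mem_map_of_mem (rho t) (self_mem t))
    omega

include H hc in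
/-- The squares of `A t` are central. -/
theorem sq_center {t a : G} (ht : orderOf t = 2) (ha : a ∈ A t) :
    a * a ∈ Subgroup.center G := by
  let f : Option {w : G // orderOf w = 2 ∧ w ∈ A t} → ↥((A t).map (rho t)) := fun o =>
    o.elim 1 (fun w => ⟨rho t w.1, Subgroup.mem_map_of_mem _ w.2.2⟩)
  have hne : ∀ w : {w : G // orderOf w = 2 ∧ w ∈ A t}, f (some w) ≠ 1 := fun w h =>
    not_center H w.2.1 (ker_rho H hc ht ▸ (congrArg Subtype.val h : rho t w.1 = 1))
  have hf : Function.Injective f := by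
    rintro (_ | v) (_ | w) h
    · rfl
    · exact absurd h.symm (hne w)
    · exact absurd h (hne v)
    · have h' : rho t v.1 = rho t w.1 := congrArg Subtype.val h
      have hz : v.1⁻¹ * w.1 ∈ Subgroup.center G := by
        rw [← ker_rho H hc ht, MonoidHom.mem_ker, map_mul, map_inv, h', inv_mul_cancel]
      by_contra hne'
      refine not_center H (H26.orderOf_two_of_mul_self ?_ fun e => hne' ?_) hz
      · rw [H65.inv_eq_self v.2.1, (H.comm t ht _ w.2.2 _ v.2.2).mul_mul_mul_comm,
          mul_self_eq_one v.2.1, mul_self_eq_one w.2.1, one_mul]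
      · exact congrArg some (Subtype.ext (inv_mul_eq_one.1 e))
  have hle : Nat.card ↥((A t).map (rho t)) ≤
      Nat.card (Option {w : G // orderOf w = 2 ∧ w ∈ A t}) := by
    rw [Finite.card_option, card_invol_A H ht, idx_add_one H hc ht]
  obtain ⟨o, ho⟩ := (hf.bijective_of_nat_card_le hle).2
    ⟨rho t a, Subgroup.mem_map_of_mem _ ha⟩
  rcases o with _ | w
  · have h1 : a ∈ Subgroup.center G := by
      rw [← ker_rho H hc ht, MonoidHom.mem_ker]; exact (congrArg Subtype.val ho).symm
    exact mul_mem h1 h1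
  · have h' : rho t w.1 = rho t a := congrArg Subtype.val ho
    have hz : w.1⁻¹ * a ∈ Subgroup.center G := by
      rw [← ker_rho H hc ht, MonoidHom.mem_ker, map_mul, map_inv, h', inv_mul_cancel]
    have : a * a = (w.1⁻¹ * a) * (w.1⁻¹ * a) := by
      rw [(H.comm t ht a ha _ ((A t).inv_mem w.2.2)).mul_mul_mul_comm, ← mul_inv_rev,
        mul_self_eq_one w.2.1, inv_one, one_mul]
    rw [this]
    exact mul_mem hz hz

include H hc in
/-- Modulo the centre the group is `PGL(2, 2^f)`. -/
theorem exists_equiv {t : G} (ht : orderOf t = 2) :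
    ∃ (F : Type) (_ : Field F) (_ : Fintype F) (f : ℕ), 2 ≤ f ∧ Fintype.card F = 2 ^ f ∧
      Nonempty (G ⧸ Subgroup.center G ≃* Matrix.ProjGenLinGroup (Fin 2) F) := by
  classical
  obtain ⟨hZ, hker⟩ := zassenhaus H hc ht
  obtain ⟨P, -, hP, -, -⟩ := exists_two_points H hc ht
  obtain ⟨f, hf⟩ : ∃ f, Nat.card ↥((A t).map (rho t)) = 2 ^ f := by
    haveI : Fact (Nat.Prime 2) := ⟨Nat.prime_two⟩
    refine IsPGroup.iff_card.1 ?_
    rintro ⟨_, a, ha, rfl⟩
    refine ⟨1, Subtype.ext ?_⟩
    rw [pow_one, pow_two, Subgroup.coe_mul, ← map_mul]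
    exact (MonoidHom.mem_ker (f := rho t)).1 ((ker_rho H hc ht).symm ▸ sq_center H hc ht ha)
  have hidx := idx_add_one H hc ht
  have hm := two_le_idx H ht
  have hf2 : 2 ≤ f := by
    by_contra hlt
    have : 2 ^ f ≤ 2 ^ 1 := Nat.pow_le_pow_right (by norm_num) (by omega)
    omega
  haveI := Fintype.ofFinite (G ⧸ N t)
  obtain ⟨h3, hsharp⟩ := H28.Zass.sharp_triple hker hZ hP.symm
    (by rw [card_two_rho H hc ht hP]; exact hidx)
  have hdeg : Fintype.card (G ⧸ N t) = 2 ^ f + 1 := by
    rw [← Nat.card_eq_fintype_card, card_points H hc ht, hf]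
  obtain ⟨F, hF, hF', hFc, ⟨e⟩⟩ := S0727.result (by omega) hdeg _ h3 hsharp
  have hk : Subgroup.center G = (MulAction.toPermHom G (G ⧸ N t)).ker := by
    rw [← ker_rho H hc ht, MonoidHom.ker_rangeRestrict]
  exact ⟨F, hF, hF', f, hf2, hFc,
    ⟨((QuotientGroup.quotientMulEquivOfEq hk).trans
      (QuotientGroup.quotientKerEquivRange _)).trans e⟩⟩

end Cfsg.Agent.H65.AbInv
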